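import Groth.Prelude.Def_W4c1zetahwZeta
import Groth.Prelude.Def_SgaExt
import Mathlib.AlgebraicGeometry.Morphisms.Finite
import Mathlib.AlgebraicGeometry.Morphisms.FiniteType
import Mathlib.AlgebraicGeometry.Morphisms.Immersion
import Mathlib.FieldTheory.Finite.GaloisField

/-!
Residue fields of points of a scheme over a field as algebras over that field, closed points,
and the rational points over a finite extension.
-/

universe u

set_option linter.style.haveILetI false

open CategoryTheory AlgebraicGeometry

namespace Groth.Agent.Lib.Zeta.Points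

variable {k : Type u} [Field k] {X : Scheme.{u}} (f : X ⟶ Spec (CommRingCat.of k))

/-- The structure map `k ⟶ κ(x)` of a point of a `k`-scheme. -/
noncomputable def resMap (x : X) : CommRingCat.of k ⟶ X.residueField x :=
  Spec.preimage (X.fromSpecResidueField x ≫ f)

theorem specMap_resMap (x : X) :
    Spec.map (resMap f x) = X.fromSpecResidueField x ≫ f :=
  Spec.map_preimage _

theorem resMap_comp {Y : Scheme.{u}} (i : Y ⟶ X) (y : Y) :
    resMap (i ≫ f) y = resMap f (i y) ≫ i.residueFieldMap y := by
  apply Spec.map_injective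
  rw [Spec.map_comp, specMap_resMap, specMap_resMap,
    Scheme.Hom.SpecMap_residueFieldMap_fromSpecResidueField_assoc]

theorem bijective_resMap_id (s : Spec (CommRingCat.of k)) :
    Function.Bijective (resMap (𝟙 (Spec (CommRingCat.of k))) s).hom := by
  refine ⟨RingHom.injective _, ?_⟩
  have hs : IsClosed ({s} : Set (Spec (CommRingCat.of k))) := by
    rw [Set.eq_univ_of_univ_subset (s := {s}) fun t _ => Subsingleton.elim t s]
    exact isClosed_univ
  have := isClosed_singleton_iff_isClosedImmersion.mp hs
  have h2 : IsClosedImmersion (Spec.map (resMap (𝟙 (Spec (CommRingCat.of k))) s)) := by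
    rw [specMap_resMap, Category.comp_id]
    infer_instance
  have : Surjective (Spec.map (resMap (𝟙 (Spec (CommRingCat.of k))) s)) :=
    ⟨fun t => ⟨IsLocalRing.closedPoint _, Subsingleton.elim _ _⟩⟩
  have : IsReduced (Spec (CommRingCat.of k)) := inferInstance
  have := isIso_of_isClosedImmersion_of_surjective (Spec.map (resMap (𝟙 (Spec (CommRingCat.of k))) s))
  have h3 : IsIso (resMap (𝟙 (Spec (CommRingCat.of k))) s) := ⟨Spec.preimage (inv (Spec.map (resMap (𝟙 (Spec (CommRingCat.of k))) s))),
    Spec.map_injective (by simp), Spec.map_injective (by simp)⟩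
  exact ((ConcreteCategory.isIso_iff_bijective _).1 h3).2

/-- The residue degree of `x` over `k`. -/
noncomputable def deg (x : X) : ℕ :=
  letI := (resMap f x).hom.toAlgebra
  Module.finrank k (X.residueField x)

theorem residueDegree_eq_deg (x : X) : EGA4loc.residueDegree f x = deg f x := by
  unfold EGA4loc.residueDegree deg
  letI := (f.residueFieldMap x).hom.toAlgebra
  letI := (resMap f x).hom.toAlgebra
  symm
  refine Algebra.finrank_eq_of_equiv_equiv
    (RingEquiv.ofBijective (resMap (𝟙 (Spec (CommRingCat.of k))) (f x)).hom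
      (bijective_resMap_id _)) (RingEquiv.refl _) ?_
  have h := resMap_comp (𝟙 (Spec (CommRingCat.of k))) f x
  rw [Category.comp_id] at h
  ext a
  exact (ConcreteCategory.congr_hom h a).symm

theorem residueDegree_comp {Y : Scheme.{u}} (i : Y ⟶ X) (y : Y)
    (hi : Function.Bijective (i.residueFieldMap y).hom) :
    EGA4loc.residueDegree (i ≫ f) y = EGA4loc.residueDegree f (i y) := by
  rw [residueDegree_eq_deg, residueDegree_eq_deg]
  unfold deg
  letI := (resMap f (i y)).hom.toAlgebra
  letI := (resMap (i ≫ f) y).hom.toAlgebra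
  symm
  refine Algebra.finrank_eq_of_equiv_equiv (RingEquiv.refl k)
    (RingEquiv.ofBijective (i.residueFieldMap y).hom hi) ?_
  ext a
  exact ConcreteCategory.congr_hom (resMap_comp f i y) a

theorem bijective_residueFieldMap {Y : Scheme.{u}} (i : Y ⟶ X) [IsImmersion i] (y : Y) :
    Function.Bijective (i.residueFieldMap y).hom := by
  refine ⟨(i.residueFieldMap y).hom.injective, fun z => ?_⟩
  obtain ⟨z', rfl⟩ := Y.residue_surjective y z
  obtain ⟨w, rfl⟩ := SurjectiveOnStalks.stalkMap_surjective i y z'
  exact ⟨X.residue (i y) w, ConcreteCategory.congr_hom (Scheme.residue_residueFieldMap i y) w⟩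

theorem residueDegree_comp_immersion {Y : Scheme.{u}} (i : Y ⟶ X) [IsImmersion i] (y : Y) :
    EGA4loc.residueDegree (i ≫ f) y = EGA4loc.residueDegree f (i y) :=
  residueDegree_comp f i y (bijective_residueFieldMap i y)

/-- On a scheme locally of finite type over a field the closed points are those of positive degree. -/
theorem isClosed_iff_deg_pos [LocallyOfFiniteType f] (x : X) :
    IsClosed ({x} : Set X) ↔ 0 < deg f x := by
  have : JacobsonSpace X := LocallyOfFiniteType.jacobsonSpace f
  unfold deg
  letI := (resMap f x).hom.toAlgebra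
  have hfin : Module.Finite k (X.residueField x) ↔ IsFinite (X.fromSpecResidueField x ≫ f) := by
    rw [← specMap_resMap, IsFinite.SpecMap_iff]
    rfl
  constructor
  · intro hx
    have := isClosed_singleton_iff_isClosedImmersion.mp hx
    have hfi := (isFinite_iff_locallyOfFiniteType_of_jacobsonSpace
      (f := X.fromSpecResidueField x ≫ f)).mpr inferInstance
    have := hfin.mpr hfi
    exact Module.finrank_pos
  · intro h
    have hfi := hfin.mp (Module.finite_of_finrank_pos h)
    rw [isClosed_singleton_iff_locallyOfFiniteType]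
    exact locallyOfFiniteType_of_comp _ f

theorem degree_eq_iff [LocallyOfFiniteType f] {e : ℕ} (he : 0 < e) (x : X) :
    IsClosed ({x} : Set X) ∧ EGA4loc.residueDegree f x = e ↔ EGA4loc.residueDegree f x = e :=
  ⟨And.right, fun h => ⟨(isClosed_iff_deg_pos f x).2 (by rwa [← residueDegree_eq_deg, h]), h⟩⟩

theorem comp_eq_iff (K : Type u) [Field K] [Algebra k K] (g : Spec (CommRingCat.of K) ⟶ X) :
    g ≫ f = Spec.map (CommRingCat.ofHom (algebraMap k K)) ↔
      resMap f (Scheme.SpecToEquivOfField K X g).1 ≫ (Scheme.SpecToEquivOfField K X g).2 =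
        CommRingCat.ofHom (algebraMap k K) := by
  conv_lhs => rw [← (Scheme.SpecToEquivOfField K X).symm_apply_apply g]
  rw [Scheme.SpecToEquivOfField_symm_apply, Category.assoc, ← specMap_resMap, ← Spec.map_comp]
  exact ⟨fun h => Spec.map_injective h, fun h => congrArg Spec.map h⟩

/-- A pair in a sigma type with a property of both components. -/
def subtypeSigmaEquivSigma {α : Type*} {β : α → Type*} (q : ∀ a, β a → Prop) :
    { p : Σ a, β a // q p.1 p.2 } ≃ Σ a, { b : β a // q a b } where
  toFun p := ⟨p.1.1, p.1.2, p.2⟩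
  invFun p := ⟨⟨p.1, p.2.1⟩, p.2.2⟩
  left_inv _ := rfl
  right_inv _ := rfl

/-- The points with values in a field, as points with residue field embeddings. -/
noncomputable def pointsEquiv (K : Type u) [Field K] [Algebra k K] :
    { g : Spec (CommRingCat.of K) ⟶ X //
        g ≫ f = Spec.map (CommRingCat.ofHom (algebraMap k K)) } ≃
      Σ x : X, { φ : X.residueField x ⟶ CommRingCat.of K //
        resMap f x ≫ φ = CommRingCat.ofHom (algebraMap k K) } :=
  (Equiv.subtypeEquiv (Scheme.SpecToEquivOfField K X) (comp_eq_iff f K)).trans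
    (subtypeSigmaEquivSigma fun x φ => resMap f x ≫ φ = CommRingCat.ofHom (algebraMap k K))

/-- Embeddings of a residue field over `k` as algebra maps. -/
noncomputable def homEquiv (K : Type u) [Field K] [Algebra k K] (x : X) :
    letI := (resMap f x).hom.toAlgebra
    { φ : X.residueField x ⟶ CommRingCat.of K //
      resMap f x ≫ φ = CommRingCat.ofHom (algebraMap k K) } ≃ (X.residueField x →ₐ[k] K) :=
  letI := (resMap f x).hom.toAlgebra
  { toFun := fun φ => { φ.1.hom with commutes' := fun a => ConcreteCategory.congr_hom φ.2 a }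
    invFun := fun φ => ⟨CommRingCat.ofHom φ.toRingHom, by ext a; exact φ.commutes a⟩
    left_inv := fun φ => rfl
    right_inv := fun φ => rfl }

/-- A scheme of finite type over a field has only finitely many points in a finite extension. -/
theorem finite_points [LocallyOfFiniteType f] [QuasiCompact f] (K : Type u) [Field K] [Algebra k K]
    [Finite K] :
    Finite { g : Spec (CommRingCat.of K) ⟶ X //
      g ≫ f = Spec.map (CommRingCat.ofHom (algebraMap k K)) } := by
  have : CompactSpace X := QuasiCompact.compactSpace_of_compactSpace f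
  let 𝒰 := X.affineCover.finiteSubcover
  have hfin : ∀ j, Finite { g : Spec (CommRingCat.of K) ⟶ 𝒰.X j //
      g ≫ 𝒰.f j ≫ f = Spec.map (CommRingCat.ofHom (algebraMap k K)) } := by
    intro j
    obtain ⟨φ, hφ⟩ : ∃ φ, Spec.map φ = (𝒰.X j).isoSpec.inv ≫ 𝒰.f j ≫ f := ⟨_, Spec.map_preimage _⟩
    have hft : RingHom.FiniteType φ.hom := by
      rw [← HasRingHomProperty.Spec_iff (P := @LocallyOfFiniteType), hφ]
      infer_instance
    letI := φ.hom.toAlgebra
    have : Algebra.FiniteType k Γ(𝒰.X j, ⊤) := hft
    obtain ⟨n, π, hπ⟩ := Algebra.FiniteType.iff_quotient_mvPolynomial''.1 this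
    have : Finite (Γ(𝒰.X j, ⊤) →ₐ[k] K) := by
      refine Finite.of_injective (fun ψ => fun i => ψ (π (MvPolynomial.X i))) fun a b hab => ?_
      have : a.comp π = b.comp π := MvPolynomial.algHom_ext fun i => congrFun hab i
      exact AlgHom.ext fun z => by
        obtain ⟨w, rfl⟩ := hπ z
        exact AlgHom.congr_fun this w
    refine Finite.of_injective (β := Γ(𝒰.X j, ⊤) →ₐ[k] K)
      (fun g => { (Spec.preimage (g.1 ≫ (𝒰.X j).isoSpec.hom)).hom with
        commutes' := fun a => by
          have : φ ≫ Spec.preimage (g.1 ≫ (𝒰.X j).isoSpec.hom) =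
              CommRingCat.ofHom (algebraMap k K) := by
            apply Spec.map_injective
            rw [Spec.map_comp, Spec.map_preimage, hφ, Category.assoc, Iso.hom_inv_id_assoc, g.2]
          exact ConcreteCategory.congr_hom this a }) fun a b hab => ?_
    have h1 : Spec.preimage (a.1 ≫ (𝒰.X j).isoSpec.hom) =
        Spec.preimage (b.1 ≫ (𝒰.X j).isoSpec.hom) :=
      CommRingCat.hom_ext (congrArg AlgHom.toRingHom hab)
    have h2 := congrArg Spec.map h1
    rw [Spec.map_preimage, Spec.map_preimage, cancel_mono] at h2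
    exact Subtype.ext h2
  refine Finite.of_surjective (α := Σ j, { g : Spec (CommRingCat.of K) ⟶ 𝒰.X j //
      g ≫ 𝒰.f j ≫ f = Spec.map (CommRingCat.ofHom (algebraMap k K)) })
    (fun p => ⟨p.2.1 ≫ 𝒰.f p.1, by rw [Category.assoc, p.2.2]⟩) fun g => ?_
  obtain ⟨j, y, hy⟩ := 𝒰.exists_eq (g.1 (IsLocalRing.closedPoint K))
  have hr : Set.range g.1 ⊆ Set.range (𝒰.f j) := by
    rintro _ ⟨t, rfl⟩
    exact ⟨y, by rw [hy, Subsingleton.elim (IsLocalRing.closedPoint K) t]⟩
  exact ⟨⟨j, IsOpenImmersion.lift (𝒰.f j) g.1 hr,
    by rw [← Category.assoc, IsOpenImmersion.lift_fac, g.2]⟩,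
    Subtype.ext (IsOpenImmersion.lift_fac _ _ _)⟩

theorem nonempty_hom_iff [Finite k] (K : Type u) [Field K] [Algebra k K] [Finite K] (x : X) :
    Nonempty { φ : X.residueField x ⟶ CommRingCat.of K //
      resMap f x ≫ φ = CommRingCat.ofHom (algebraMap k K) } ↔
      0 < deg f x ∧ deg f x ∣ Module.finrank k K := by
  unfold deg
  letI := (resMap f x).hom.toAlgebra
  rw [(homEquiv f K x).nonempty_congr]
  constructor
  · rintro ⟨φ⟩
    have := Finite.of_injective φ φ.toRingHom.injective
    exact ⟨Module.finrank_pos, FiniteField.nonempty_algHom_iff_finrank_dvd.1 ⟨φ⟩⟩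
  · rintro ⟨h, hd⟩
    have := Module.finite_of_finrank_pos h
    have := Module.finite_of_finite k (M := X.residueField x)
    exact FiniteField.nonempty_algHom_of_finrank_dvd hd

theorem card_hom [Finite k] (K : Type u) [Field K] [Algebra k K] [Finite K] (x : X)
    (h : 0 < deg f x ∧ deg f x ∣ Module.finrank k K) :
    Nat.card { φ : X.residueField x ⟶ CommRingCat.of K //
      resMap f x ≫ φ = CommRingCat.ofHom (algebraMap k K) } = deg f x := by
  revert h
  unfold deg
  letI := (resMap f x).hom.toAlgebra
  rintro ⟨h, hd⟩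
  rw [Nat.card_congr (homEquiv f K x)]
  have := Module.finite_of_finrank_pos h
  have := Module.finite_of_finite k (M := X.residueField x)
  exact FiniteField.natCard_algHom_of_finrank_dvd hd

theorem finite_setOf_deg [Finite k] [LocallyOfFiniteType f] [QuasiCompact f] (e : ℕ) (he : 0 < e) :
    {x : X | deg f x = e}.Finite := by
  rcases Set.eq_empty_or_nonempty {x : X | deg f x = e} with h | ⟨x₀, hx₀⟩
  · rw [h]; exact Set.finite_empty
  letI := (resMap f x₀).hom.toAlgebra
  have hd : Module.finrank k (X.residueField x₀) = e := hx₀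
  have := Module.finite_of_finrank_pos (R := k) (M := X.residueField x₀) (by omega)
  have : Finite (X.residueField x₀) := Module.finite_of_finite k
  have := finite_points f (X.residueField x₀)
  have hex : ∀ x : {x : X | deg f x = e},
      Nonempty { φ : X.residueField x.1 ⟶ CommRingCat.of (X.residueField x₀) //
        resMap f x.1 ≫ φ = CommRingCat.ofHom (algebraMap k (X.residueField x₀)) } := fun x =>
    (nonempty_hom_iff f _ x.1).2
      ⟨lt_of_lt_of_eq he (Eq.symm x.2), dvd_of_eq (Eq.trans x.2 hd.symm)⟩
  refine @Set.toFinite _ _ (Finite.of_injective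
    (fun x : {x : X | deg f x = e} => (pointsEquiv f (X.residueField x₀)).symm
      ⟨x.1, (hex x).some⟩) fun a b hab => ?_)
  exact Subtype.ext (congrArg Sigma.fst ((pointsEquiv f _).symm.injective hab))

theorem degCount_eq [LocallyOfFiniteType f] {e : ℕ} (he : 0 < e) :
    Zeta.degCount f e = {x : X | deg f x = e}.ncard := by
  rw [← Nat.card_coe_set_eq]
  refine Nat.card_congr (Equiv.subtypeEquivRight fun x => ?_)
  rw [degree_eq_iff f he, residueDegree_eq_deg]
  rfl

theorem pointCount_eq_nPts [Finite k] [LocallyOfFiniteType f] [QuasiCompact f]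
    (K : Type u) [Field K] [Algebra k K] [Finite K] :
    SgaExt.pointCount f K = Zeta.nPts f (Module.finrank k K) := by
  classical
  set r := Module.finrank k K
  have hr : r ≠ 0 := Module.finrank_pos.ne'
  have hS : {x : X | deg f x ∈ r.divisors}.Finite := by
    refine (Set.Finite.biUnion (Finset.finite_toSet r.divisors) fun e he =>
      finite_setOf_deg f e (Nat.pos_of_mem_divisors he)).subset fun x hx => ?_
    exact Set.mem_biUnion (x := deg f x) hx rfl
  let p : X → Prop := fun x => x ∈ hS.toFinset
  have hp : ∀ x : X, Nonempty { φ : X.residueField x ⟶ CommRingCat.of K //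
      resMap f x ≫ φ = CommRingCat.ofHom (algebraMap k K) } → p x := fun x hx => by
    obtain ⟨h1, h2⟩ := (nonempty_hom_iff f K x).1 hx
    simp [p, hr, h2, r]
  unfold SgaExt.pointCount Zeta.nPts
  rw [Nat.card_congr ((pointsEquiv f K).trans
    (Equiv.sigmaSubtypeEquivOfSubset _ p (fun x φ => hp x ⟨φ⟩)).symm)]
  have : ∀ x : Subtype p, Finite { φ : X.residueField (x : X) ⟶ CommRingCat.of K //
      resMap f (x : X) ≫ φ = CommRingCat.ofHom (algebraMap k K) } := fun x => by
    have hx := x.2
    simp only [p, Set.Finite.mem_toFinset, Set.mem_ofPred_eq, Nat.mem_divisors] at hx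
    apply Nat.finite_of_card_ne_zero
    rw [card_hom f K x ⟨Nat.pos_of_dvd_of_pos hx.1 (Nat.pos_of_ne_zero hr), hx.1⟩]
    exact (Nat.pos_of_dvd_of_pos hx.1 (Nat.pos_of_ne_zero hr)).ne'
  haveI : Fintype (Subtype p) := Fintype.subtype hS.toFinset fun x => Iff.rfl
  rw [Nat.card_sigma, Finset.sum_congr rfl (g := fun x : Subtype p => deg f (x : X))]
  swap
  · intro x _
    have hx := x.2
    simp only [p, Set.Finite.mem_toFinset, Set.mem_ofPred_eq, Nat.mem_divisors] at hx
    exact card_hom f K x ⟨Nat.pos_of_dvd_of_pos hx.1 (Nat.pos_of_ne_zero hr), hx.1⟩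
  rw [Finset.sum_subtype hS.toFinset (fun x => Iff.rfl) (fun x => deg f x) |>.symm,
    ← Finset.sum_fiberwise_of_maps_to (t := r.divisors) (g := deg f)
      (fun x hx => by simpa using hx)]
  refine Finset.sum_congr rfl fun e he => ?_
  rw [Finset.sum_congr rfl (fun x hx => (Finset.mem_filter.1 hx).2), Finset.sum_const, smul_eq_mul,
    mul_comm, degCount_eq f (Nat.pos_of_mem_divisors he), ← Set.ncard_coe_finset]
  congr 2
  ext x
  simp only [Finset.coe_filter, Set.Finite.mem_toFinset, Set.mem_ofPred_eq]
  exact ⟨fun h => h.2, fun h => ⟨h ▸ he, h⟩⟩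

end Groth.Agent.Lib.Zeta.Points
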