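import Mathlib.RingTheory.PowerSeries.Substitution
import Mathlib.RingTheory.PowerSeries.Exp
import Mathlib.RingTheory.PowerSeries.Log
import Mathlib.RingTheory.PowerSeries.Derivative
import Mathlib.RingTheory.PowerSeries.Order

/-!
Formal exponential of a power series without constant term over a `ℚ`-algebra.
-/

open PowerSeries

set_option linter.unusedSectionVars false

namespace Groth.Agent.Lib.Zeta.ExpSeries

variable {A : Type*} [CommRing A] [Algebra ℚ A]

/-- `exp g`, for a power series `g` with zero constant term. -/
noncomputable def expS (g : PowerSeries A) : PowerSeries A := PowerSeries.subst g (PowerSeries.exp A)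

theorem isAddTorsionFree : IsAddTorsionFree A := by
  refine ⟨fun n hn a b hab => ?_⟩
  have h : IsUnit ((n : ℚ)) := isUnit_iff_ne_zero.2 (by exact_mod_cast hn)
  have h' : IsUnit ((n : A)) := by simpa using h.map (algebraMap ℚ A)
  simp only [nsmul_eq_mul] at hab
  exact h'.mul_left_cancel hab

theorem hasSubst_of {g : PowerSeries A} (hg : constantCoeff g = 0) : HasSubst g :=
  HasSubst.of_constantCoeff_zero' hg

theorem constantCoeff_expS {g : PowerSeries A} (hg : constantCoeff g = 0) :
    constantCoeff (expS g) = 1 := by
  have h : constantCoeff (PowerSeries.subst g (PowerSeries.exp A - 1)) = 0 :=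
    constantCoeff_subst_eq_zero hg _ (by simp)
  rw [subst_sub (hasSubst_of hg)] at h
  have h1 : PowerSeries.subst g (1 : PowerSeries A) = (1 : PowerSeries A) := by
    rw [← coe_substAlgHom (hasSubst_of hg), map_one]
  rw [h1, map_sub, map_one, sub_eq_zero] at h
  exact h

theorem derivative_expS {g : PowerSeries A} (hg : constantCoeff g = 0) :
    d⁄dX A (expS g) = d⁄dX A g * expS g := by
  rw [expS, derivative_subst (hasSubst_of hg), derivative_exp, mul_comm]

theorem expS_mul_expS_neg {g : PowerSeries A} (hg : constantCoeff g = 0) :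
    expS g * expS (-g) = 1 := by
  have := isAddTorsionFree (A := A)
  have hg' : constantCoeff (-g) = 0 := by simp [hg]
  apply derivative.ext
  · rw [Derivation.leibniz, derivative_expS hg, derivative_expS hg', derivative_one, map_neg,
      smul_eq_mul, smul_eq_mul]
    ring
  · simp [constantCoeff_expS hg, constantCoeff_expS hg']

/-- `exp g` is the unique solution of `F' = g' F`, `F(0) = 1`. -/
theorem eq_expS_of_derivative {g F : PowerSeries A} (hg : constantCoeff g = 0)
    (hF : d⁄dX A F = d⁄dX A g * F) (hF0 : constantCoeff F = 1) : F = expS g := by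
  have := isAddTorsionFree (A := A)
  have hg' : constantCoeff (-g) = 0 := by simp [hg]
  have h1 : F * expS (-g) = 1 := by
    apply derivative.ext
    · rw [Derivation.leibniz, hF, derivative_expS hg', derivative_one, map_neg, smul_eq_mul,
        smul_eq_mul]
      ring
    · simp [hF0, constantCoeff_expS hg']
  calc F = F * (expS g * expS (-g)) := by rw [expS_mul_expS_neg hg, mul_one]
    _ = (F * expS (-g)) * expS g := by ring
    _ = expS g := by rw [h1, one_mul]

theorem expS_zero : expS (0 : PowerSeries A) = 1 :=
  (eq_expS_of_derivative (by simp) (by simp) (by simp)).symm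

theorem expS_add {g h : PowerSeries A} (hg : constantCoeff g = 0) (hh : constantCoeff h = 0) :
    expS (g + h) = expS g * expS h := by
  refine (eq_expS_of_derivative (by simp [hg, hh]) ?_ ?_).symm
  · rw [Derivation.leibniz, derivative_expS hg, derivative_expS hh, map_add, smul_eq_mul,
      smul_eq_mul]
    ring
  · simp [constantCoeff_expS hg, constantCoeff_expS hh]

theorem expS_nsmul {g : PowerSeries A} (hg : constantCoeff g = 0) (n : ℕ) :
    expS (n • g) = expS g ^ n := by
  induction n with
  | zero => simp [expS_zero]
  | succ n ih =>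
    rw [succ_nsmul, expS_add (by simp [hg]) hg, ih, pow_succ]

theorem expS_sum {ι : Type*} (s : Finset ι) (g : ι → PowerSeries A)
    (hg : ∀ i ∈ s, constantCoeff (g i) = 0) :
    expS (∑ i ∈ s, g i) = ∏ i ∈ s, expS (g i) := by
  induction s using Finset.cons_induction with
  | empty => simp [expS_zero]
  | cons a s ha ih =>
    rw [Finset.sum_cons, Finset.prod_cons,
      expS_add (hg a (Finset.mem_cons_self a s))
        (by rw [map_sum]; exact Finset.sum_eq_zero fun i hi => hg i (Finset.mem_cons_of_mem hi)),
      ih fun i hi => hg i (Finset.mem_cons_of_mem hi)]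

theorem map_expS {B : Type*} [CommRing B] [Algebra ℚ B] (φ : A →+* B) {g : PowerSeries A}
    (hg : constantCoeff g = 0) :
    PowerSeries.map φ (expS g) = expS (PowerSeries.map φ g) := by
  have h0 : constantCoeff (PowerSeries.map φ g) = 0 := by
    rw [← coeff_zero_eq_constantCoeff_apply, coeff_map, coeff_zero_eq_constantCoeff_apply, hg,
      map_zero]
  refine eq_expS_of_derivative h0 ?_ ?_
  · have hmap : ∀ f : PowerSeries A,
        d⁄dX B (PowerSeries.map φ f) = PowerSeries.map φ (d⁄dX A f) := by
      intro f
      ext n
      simp [coeff_derivative, map_mul]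
    rw [hmap, hmap, derivative_expS hg, map_mul]
  · rw [← coeff_zero_eq_constantCoeff_apply, coeff_map, coeff_zero_eq_constantCoeff_apply,
      constantCoeff_expS hg, map_one]

/-- The series `∑_{j ≥ 1} c^j X^(r j) / j = -log (1 - c X^r)`. -/
noncomputable def geomLog (c : A) (r : ℕ) : PowerSeries A :=
  PowerSeries.mk fun m => if r ∣ m then algebraMap ℚ A ((r : ℚ) / m) * c ^ (m / r) else 0

theorem constantCoeff_geomLog (c : A) (r : ℕ) : constantCoeff (geomLog c r) = 0 := by
  simp [geomLog, ← coeff_zero_eq_constantCoeff_apply]

theorem derivative_geomLog_mul (c : A) {r : ℕ} (hr : r ≠ 0) :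
    d⁄dX A (geomLog c r) * (1 - C c * X ^ r) = - d⁄dX A (1 - C c * X ^ r) := by
  have hd : d⁄dX A (geomLog c r) =
      PowerSeries.mk fun n => if r ∣ n + 1 then (r : A) * c ^ ((n + 1) / r) else 0 := by
    ext n
    rw [coeff_derivative, geomLog, coeff_mk, coeff_mk]
    split_ifs with h
    · rw [mul_right_comm]
      congr 1
      rw [show ((n : A) + 1) = algebraMap ℚ A ((n : ℚ) + 1) by simp, ← map_mul,
        Nat.cast_succ, div_mul_cancel₀ _ (by positivity)]
      simp
    · rw [zero_mul]
  rw [hd]
  ext n
  rw [mul_sub, mul_one, map_sub, ← mul_assoc]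
  rw [show d⁄dX A (1 - C c * X ^ r) = - (C ((r : A) * c) * X ^ (r - 1)) by
    rw [map_sub, derivative_one, Derivation.leibniz, derivative_C, derivative_pow, derivative_X,
      zero_sub, smul_eq_mul, smul_eq_mul, mul_zero, add_zero, map_mul, map_natCast]
    ring]
  rw [neg_neg, coeff_C_mul, coeff_X_pow, coeff_mul_X_pow', coeff_mk]
  by_cases hn : r ≤ n
  · rw [if_pos hn, if_neg (by omega : ¬ n = r - 1), mul_zero, coeff_mul_C, coeff_mk]
    have e : n - r + 1 = n + 1 - r := by omega
    rw [e]
    by_cases hd' : r ∣ n + 1
    · have h2 : r ∣ n + 1 - r := Nat.dvd_sub hd' dvd_rfl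
      rw [if_pos hd', if_pos h2]
      have : (n + 1) / r = (n + 1 - r) / r + 1 := by
        conv_lhs => rw [show n + 1 = (n + 1 - r) + r by omega]
        rw [Nat.add_div_right _ (Nat.pos_of_ne_zero hr)]
      rw [this, pow_succ]; ring
    · have h2 : ¬ r ∣ n + 1 - r := fun h => hd' <| by
        have := Nat.dvd_add h (dvd_refl r)
        rwa [show n + 1 - r + r = n + 1 by omega] at this
      rw [if_neg hd', if_neg h2]; simp
  · rw [if_neg hn, sub_zero]
    by_cases h' : n = r - 1
    · subst h'
      rw [show r - 1 + 1 = r by omega, if_pos dvd_rfl, if_pos rfl, Nat.div_self (Nat.pos_of_ne_zero hr)]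
      simp
    · rw [if_neg h', if_neg, mul_zero]
      intro hd'
      have := Nat.le_of_dvd (by omega) hd'
      omega

theorem expS_geomLog_mul (c : A) {r : ℕ} (hr : r ≠ 0) :
    expS (geomLog c r) * (1 - C c * X ^ r) = 1 := by
  have := isAddTorsionFree (A := A)
  apply derivative.ext
  · rw [Derivation.leibniz, derivative_expS (constantCoeff_geomLog c r), derivative_one,
      smul_eq_mul, smul_eq_mul]
    have h := derivative_geomLog_mul c hr
    linear_combination expS (geomLog c r) * h
  · rw [map_mul, constantCoeff_expS (constantCoeff_geomLog c r)]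
    simp [hr]

theorem expS_log : expS (log A) = 1 + X := by
  have := isAddTorsionFree (A := A)
  refine (eq_expS_of_derivative constantCoeff_log ?_ (by simp)).symm
  rw [map_add, derivative_one, derivative_X, zero_add, deriv_log, mul_add, mul_one]
  ext n
  rw [map_add, coeff_one, coeff_mk]
  cases n with
  | zero => simp
  | succ n =>
    rw [coeff_succ_mul_X, coeff_mk, if_neg n.succ_ne_zero, ← map_add, pow_succ]
    simp

theorem log_subst_exp_sub_one :
    PowerSeries.subst (PowerSeries.exp A - 1) (log A) = (X : PowerSeries A) := by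
  have := isAddTorsionFree (A := A)
  have hb : HasSubst (PowerSeries.exp A - 1) := HasSubst.exp_sub_one
  refine derivative.ext ?_ ?_
  · rw [derivative_subst hb, derivative_X, map_sub, derivative_exp, derivative_one, sub_zero]
    have h1 : (d⁄dX A (log A)) * (1 + X) = (1 : PowerSeries A) := by
      rw [deriv_log, mul_add, mul_one]
      ext n
      rw [map_add, coeff_one, coeff_mk]
      cases n with
      | zero => simp
      | succ n =>
        rw [coeff_succ_mul_X, coeff_mk, if_neg n.succ_ne_zero, ← map_add, pow_succ]
        simp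
    have h2 := congrArg (substAlgHom hb) h1
    rw [map_mul, map_add, map_one, coe_substAlgHom, subst_X hb] at h2
    rwa [add_sub_cancel] at h2
  · have h : constantCoeff (PowerSeries.subst (PowerSeries.exp A - 1) (log A)) = 0 :=
      constantCoeff_subst_eq_zero (show constantCoeff (PowerSeries.exp A - 1) = 0 by simp) _
        constantCoeff_log
    simpa using h

end Groth.Agent.Lib.Zeta.ExpSeries
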