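import Groth.Agent.Lib.Zeta.ExpSeries
import Groth.Agent.Lib.Zeta.Points
import Mathlib.Algebra.BigOperators.Field
import Mathlib.RingTheory.PowerSeries.Inverse
import Mathlib.RingTheory.PowerSeries.Trunc

/-!
The zeta function of a scheme over a finite field: Euler product and additivity.
-/

universe u

open CategoryTheory AlgebraicGeometry PowerSeries
open Groth.Agent.Lib.Zeta.ExpSeries

namespace Groth.Agent.Lib.Zeta.ZetaFun

variable {k : Type u} [Field k] {X : Scheme.{u}} (f : X ⟶ Spec (CommRingCat.of k))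

theorem constantCoeff_logZeta : constantCoeff (_root_.Zeta.logZeta f) = 0 := by
  simp [_root_.Zeta.logZeta, ← coeff_zero_eq_constantCoeff_apply]

theorem zetaFun_eq : _root_.Zeta.zetaFun f = expS (_root_.Zeta.logZeta f) := rfl

/-- `1 ≡ exp g` modulo `X^(n+1)` when `g ≡ 0`. -/
theorem coeff_expS_of_coeff_eq_zero {A : Type*} [CommRing A] [Algebra ℚ A] {g : PowerSeries A}
    {n : ℕ} (hg : ∀ m ≤ n, coeff m g = 0) {m : ℕ} (hm : m ≤ n) :
    coeff m (expS g) = if m = 0 then 1 else 0 := by
  have hg0 : constantCoeff g = 0 := by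
    rw [← coeff_zero_eq_constantCoeff_apply]; exact hg 0 (Nat.zero_le _)
  cases m with
  | zero => rw [if_pos rfl, coeff_zero_eq_constantCoeff_apply, constantCoeff_expS hg0]
  | succ m =>
    rw [if_neg m.succ_ne_zero]
    have h := congrArg (coeff m) (derivative_expS hg0)
    rw [coeff_derivative, coeff_mul] at h
    have h0 : coeff (m + 1) (expS g) * ((m : A) + 1) = 0 := by
      rw [h]
      refine Finset.sum_eq_zero fun p hp => ?_
      rw [Finset.HasAntidiagonal.mem_antidiagonal] at hp
      rw [coeff_derivative, hg _ (by omega), zero_mul, zero_mul]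
    have hu : IsUnit ((m : A) + 1) := by
      have : IsUnit ((m : ℚ) + 1) := isUnit_iff_ne_zero.2 (by positivity)
      simpa using this.map (algebraMap ℚ A)
    exact hu.mul_left_eq_zero.1 h0

/-- The Euler product factor of the closed points of degree at most `n`. -/
noncomputable def eulerDenom (n : ℕ) : PowerSeries ℤ :=
  ∏ r ∈ Finset.Icc 1 n, (1 - PowerSeries.X ^ r) ^ _root_.Zeta.degCount f r

theorem coeff_zetaFun_mul_eulerDenom {n m : ℕ} (hm : m ≤ n) :
    coeff m (_root_.Zeta.zetaFun f * PowerSeries.map (Int.castRingHom ℚ) (eulerDenom f n)) =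
      if m = 0 then (1 : ℚ) else 0 := by
  set g : PowerSeries ℚ :=
    ∑ r ∈ Finset.Icc 1 n, _root_.Zeta.degCount f r • geomLog (1 : ℚ) r with hg
  have hg0 : constantCoeff g = 0 := by
    rw [hg, map_sum]
    exact Finset.sum_eq_zero fun r _ => by rw [map_nsmul, constantCoeff_geomLog, smul_zero]
  have h1 : expS g * PowerSeries.map (Int.castRingHom ℚ) (eulerDenom f n) = 1 := by
    rw [hg, expS_sum _ _ (fun r _ => by rw [map_nsmul, constantCoeff_geomLog, smul_zero]),
      eulerDenom, map_prod, ← Finset.prod_mul_distrib]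
    refine Finset.prod_eq_one fun r hr => ?_
    rw [expS_nsmul (constantCoeff_geomLog _ _), map_pow, ← mul_pow]
    have := expS_geomLog_mul (1 : ℚ) (r := r) (by have := (Finset.mem_Icc.1 hr).1; omega)
    simp only [map_one, one_mul] at this
    rw [map_sub, map_one, map_pow, PowerSeries.map_X, this, one_pow]
  have h2 : _root_.Zeta.zetaFun f =
      expS g * expS (_root_.Zeta.logZeta f - g) := by
    rw [← expS_add hg0 (by simp [constantCoeff_logZeta, hg0]), zetaFun_eq]
    congr 1
    ring
  rw [h2, mul_comm (expS g), mul_assoc, h1, mul_one]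
  refine coeff_expS_of_coeff_eq_zero (fun i hi => ?_) hm
  rw [map_sub, sub_eq_zero, hg, map_sum, _root_.Zeta.logZeta, coeff_mk, _root_.Zeta.nPts,
    Nat.cast_sum, Finset.sum_div]
  rcases Nat.eq_zero_or_pos i with rfl | hi0
  · simp [geomLog]
  have hsub : i.divisors ⊆ Finset.Icc 1 n := fun e he => Finset.mem_Icc.2
    ⟨Nat.pos_of_mem_divisors he, (Nat.divisor_le he).trans hi⟩
  rw [← Finset.sum_subset hsub]
  · refine Finset.sum_congr rfl fun e he => ?_
    rw [map_nsmul, geomLog, coeff_mk, if_pos (Nat.dvd_of_mem_divisors he), nsmul_eq_mul]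
    push_cast
    simp [mul_div_assoc, mul_comm]
    ring
  · intro e _ he
    rw [map_nsmul, geomLog, coeff_mk, if_neg, smul_zero]
    exact fun hd => he (Nat.mem_divisors.2 ⟨hd, hi0.ne'⟩)

theorem exists_int_coeff (n : ℕ) :
    ∃ z : ℤ, coeff n (_root_.Zeta.zetaFun f) = (z : ℚ) := by
  have h0 : constantCoeff (eulerDenom f n) = 1 := by
    rw [eulerDenom, map_prod]
    refine Finset.prod_eq_one fun r hr => ?_
    rw [map_pow, map_sub, map_one, map_pow, constantCoeff_X,
      zero_pow (by have := (Finset.mem_Icc.1 hr).1; omega), sub_zero, one_pow]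
  obtain ⟨Q, hQ⟩ := (isUnit_iff_constantCoeff.2 (h0 ▸ isUnit_one) : IsUnit (eulerDenom f n)).exists_right_inv
  refine ⟨coeff n Q, ?_⟩
  have h : _root_.Zeta.zetaFun f =
      _root_.Zeta.zetaFun f * PowerSeries.map (Int.castRingHom ℚ) (eulerDenom f n) *
        PowerSeries.map (Int.castRingHom ℚ) Q := by
    rw [mul_assoc, ← map_mul, hQ, map_one, mul_one]
  rw [h, coeff_mul, Finset.sum_eq_single ((0 : ℕ), n)]
  · rw [coeff_zetaFun_mul_eulerDenom f (Nat.zero_le _), if_pos rfl, one_mul, coeff_map]
    rfl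
  · intro p hp hne
    rw [Finset.HasAntidiagonal.mem_antidiagonal] at hp
    rw [coeff_zetaFun_mul_eulerDenom f (by omega), if_neg, zero_mul]
    intro h1
    exact hne (Prod.ext h1 (by simp; omega))
  · simp

theorem logZeta_add {Y U : Scheme.{u}} (g : Y ⟶ Spec (CommRingCat.of k))
    (h : U ⟶ Spec (CommRingCat.of k))
    (H : ∀ e, 0 < e → _root_.Zeta.degCount f e = _root_.Zeta.degCount g e + _root_.Zeta.degCount h e) :
    _root_.Zeta.logZeta f = _root_.Zeta.logZeta g + _root_.Zeta.logZeta h := by
  ext n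
  simp only [_root_.Zeta.logZeta, map_add, coeff_mk, _root_.Zeta.nPts]
  rw [← add_div]
  congr 1
  rw [← Nat.cast_add, ← Finset.sum_add_distrib]
  exact congrArg Nat.cast (Finset.sum_congr rfl fun e he => by
    rw [H e (Nat.pos_of_mem_divisors he), mul_add])

/-- A partition of the closed points by images of immersions gives a decomposition of `degCount`. -/
theorem degCount_partition [Finite k] [LocallyOfFiniteType f] [QuasiCompact f] {ι : Type*}
    [Fintype ι] (Y : ι → Scheme.{u}) (g : ∀ i, Y i ⟶ X) [∀ i, IsImmersion (g i)]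
    (hpart : ∀ x : X, IsClosed ({x} : Set X) → ∃! i, x ∈ Set.range (g i).base) {e : ℕ}
    (he : 0 < e) :
    _root_.Zeta.degCount f e = ∑ i, _root_.Zeta.degCount (g i ≫ f) e := by
  classical
  rw [Points.degCount_eq f he]
  have hfin := Points.finite_setOf_deg f e he
  have hi : ∀ i, _root_.Zeta.degCount (g i ≫ f) e =
      ({x : X | Points.deg f x = e} ∩ Set.range (g i).base).ncard := by
    intro i
    rw [Points.degCount_eq (g i ≫ f) he, ← Set.image_preimage_eq_inter_range,
      Set.ncard_image_of_injective _ (g i).isEmbedding.injective]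
    congr 1
    ext y
    simp only [Set.mem_preimage, Set.mem_ofPred_eq]
    rw [← Points.residueDegree_eq_deg, ← Points.residueDegree_eq_deg,
      Points.residueDegree_comp_immersion]
  simp only [hi]
  rw [Set.ncard_eq_toFinset_card _ hfin]
  simp only [fun i => Set.ncard_eq_toFinset_card _ (hfin.inter_of_left (Set.range (g i).base))]
  rw [← Finset.card_biUnion]
  · congr 1
    ext x
    simp only [Finset.mem_biUnion, Finset.mem_univ, true_and, Set.Finite.mem_toFinset,
      Set.mem_inter_iff, Set.mem_ofPred_eq]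
    refine ⟨fun hx => ?_, fun ⟨i, hx, _⟩ => hx⟩
    obtain ⟨i, hi, -⟩ := hpart x ((Points.isClosed_iff_deg_pos f x).2 (hx ▸ he))
    exact ⟨i, hx, hi⟩
  · intro i _ j _ hij
    rw [Function.onFun, Finset.disjoint_left]
    intro x hx hx'
    rw [Set.Finite.mem_toFinset] at hx hx'
    obtain ⟨l, -, hl⟩ := hpart x ((Points.isClosed_iff_deg_pos f x).2 (by
      have h : Points.deg f x = e := hx.1
      omega))
    exact hij ((hl i hx.2).trans (hl j hx'.2).symm)

theorem zetaFun_partition [Finite k] [LocallyOfFiniteType f] [QuasiCompact f] {ι : Type*}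
    [Fintype ι] (Y : ι → Scheme.{u}) (g : ∀ i, Y i ⟶ X) [∀ i, IsImmersion (g i)]
    (hpart : ∀ x : X, IsClosed ({x} : Set X) → ∃! i, x ∈ Set.range (g i).base) :
    _root_.Zeta.zetaFun f = ∏ i, _root_.Zeta.zetaFun (g i ≫ f) := by
  simp only [zetaFun_eq]
  rw [← expS_sum _ _ (fun i _ => constantCoeff_logZeta _)]
  congr 1
  ext n
  simp only [map_sum, _root_.Zeta.logZeta, coeff_mk, _root_.Zeta.nPts]
  rw [← Finset.sum_div]
  congr 1
  rw [← Nat.cast_sum, Finset.sum_comm]
  refine congrArg Nat.cast (Finset.sum_congr rfl fun e he => ?_)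
  rw [degCount_partition f Y g hpart (Nat.pos_of_mem_divisors he), Finset.mul_sum]

end Groth.Agent.Lib.Zeta.ZetaFun
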