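import Groth.Agent.Lib.Zeta.PointBound
import Mathlib.AlgebraicGeometry.Morphisms.Finite
import Mathlib.AlgebraicGeometry.Morphisms.FiniteType
import Mathlib.AlgebraicGeometry.ResidueField
import Mathlib.FieldTheory.Finite.GaloisField
import Mathlib.RingTheory.PrincipalIdealDomain
import Mathlib.RingTheory.Jacobson.Ring
import Mathlib.RingTheory.DedekindDomain.Basic

/-!
Points of schemes of finite type over `ℤ` with values in finite fields.
-/

universe u v w

open CategoryTheory AlgebraicGeometry TopologicalSpace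

set_option linter.style.haveILetI false

namespace Groth.Agent.Lib.Zeta.ArithScheme

/-- An affine scheme of finite type over `ℤ` of dimension at most `r` has `O(q^r)` points in `F_q`,
and `O(q^(r-1))` points when the characteristic is large. -/
theorem exists_bound_affine (A : Type u) [CommRing A] [Algebra.FiniteType ℤ A] (r : ℕ)
    (hr : ringKrullDim A ≤ r) :
    ∃ C p₀ : ℕ, ∀ (F : Type w) [Field F], Finite F →
      Nat.card (A →+* F) ≤ C * Nat.card F ^ r ∧
      (p₀ ≤ ringChar F → Nat.card F * Nat.card (A →+* F) ≤ C * Nat.card F ^ r) := by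
  classical
  obtain ⟨M, C₀, hM, hgen⟩ := PointBound.exists_bound_generic.{u, w} A r hr
  have hsmall : ∀ p : ℕ, ∃ C : ℕ, ∀ (F : Type w) [Field F], Finite F → ringChar F = p →
      Nat.card (A →+* F) ≤ C * Nat.card F ^ r := by
    intro p
    by_cases hp : p.Prime
    swap
    · refine ⟨0, fun F _ _ hc => absurd (hc ▸ CharP.char_is_prime F (ringChar F)) hp⟩
    haveI : Fact p.Prime := ⟨hp⟩
    let I : Ideal A := Ideal.span {(p : A)}
    have hfac : ∀ (F : Type w) [Field F], ringChar F = p →
        Function.Surjective (fun ψ : A ⧸ I →+* F => ψ.comp (Ideal.Quotient.mk I)) := by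
      intro F _ hc φ
      refine ⟨Ideal.Quotient.lift I φ fun a ha => ?_, Ideal.Quotient.lift_comp_mk _ _ _⟩
      obtain ⟨b, rfl⟩ := Ideal.mem_span_singleton'.1 ha
      rw [map_mul, map_natCast, ← hc, ringChar.Nat.cast_ringChar, mul_zero]
    rcases subsingleton_or_nontrivial (A ⧸ I) with hQ | hQ
    · refine ⟨0, fun F _ _ hc => ?_⟩
      haveI : IsEmpty (A →+* F) := ⟨fun φ => by
        obtain ⟨ψ, -⟩ := hfac F hc φ
        exact one_ne_zero (α := F) (by rw [← map_one ψ, Subsingleton.elim (1 : A ⧸ I) 0, map_zero])⟩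
      simp
    have hp0 : (p : A ⧸ I) = 0 := by
      rw [← map_natCast (Ideal.Quotient.mk I)]
      exact Ideal.Quotient.eq_zero_iff_mem.2 (Ideal.mem_span_singleton_self _)
    haveI : CharP (A ⧸ I) p := (CharP.charP_iff_prime_eq_zero hp).2 hp0
    letI : Algebra (ZMod p) (A ⧸ I) := ZMod.algebra _ p
    haveI : Algebra.FiniteType (ZMod p) (A ⧸ I) := by
      rw [← RingHom.finiteType_algebraMap]
      refine RingHom.FiniteType.of_comp_finiteType (f := Int.castRingHom (ZMod p)) ?_
      rw [RingHom.ext_int ((algebraMap (ZMod p) (A ⧸ I)).comp (Int.castRingHom (ZMod p)))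
        ((Ideal.Quotient.mk I).comp (algebraMap ℤ A))]
      exact (RingHom.FiniteType.of_surjective _ Ideal.Quotient.mk_surjective).comp
        (RingHom.finiteType_algebraMap.2 inferInstance)
    obtain ⟨C, hC⟩ := PointBound.exists_bound_zmod.{u, w} p (A ⧸ I) r
      ((ringKrullDim_quotient_le I).trans hr)
    refine ⟨C, fun F _ hF hc => ?_⟩
    haveI := PointBound.finite_hom A F
    haveI : Finite (A ⧸ I →+* F) :=
      Finite.of_injective (fun ψ => ψ.comp (Ideal.Quotient.mk I)) fun ψ₁ ψ₂ h =>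
        Ideal.Quotient.ringHom_ext h
    exact (Nat.card_le_card_of_surjective _ (hfac F hc)).trans (hC F hF)
  choose Cs hCs using hsmall
  refine ⟨C₀ + ∑ p ∈ M.primeFactors, Cs p, M + 1, fun F _ hF => ?_⟩
  have hp : (ringChar F).Prime := CharP.char_is_prime F (ringChar F)
  have hMF : (M : F) = 0 ↔ ringChar F ∣ M := ringChar.spec F M
  refine ⟨?_, fun hle => ?_⟩
  · by_cases h : (M : F) = 0
    · refine (hCs (ringChar F) F hF rfl).trans (Nat.mul_le_mul_right _ ?_)
      have hmem : ringChar F ∈ M.primeFactors := Nat.mem_primeFactors.2 ⟨hp, hMF.1 h, hM⟩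
      exact (Finset.single_le_sum (f := Cs) (fun _ _ => Nat.zero_le _) hmem).trans
        (Nat.le_add_left _ _)
    · refine le_trans (Nat.le_mul_of_pos_left _ Nat.card_pos) ((hgen F hF h).trans ?_)
      exact Nat.mul_le_mul_right _ (Nat.le_add_right _ _)
  · have h : (M : F) ≠ 0 := fun h => by
      have := Nat.le_of_dvd (Nat.pos_of_ne_zero hM) (hMF.1 h)
      omega
    exact (hgen F hF h).trans (Nat.mul_le_mul_right _ (Nat.le_add_right _ _))

/-- The number of points is bounded in a scheme of finite type over `ℤ` of bounded dimension. -/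
theorem exists_bound_scheme {X : Scheme.{u}} (f : X ⟶ Spec (CommRingCat.of (ULift.{u} ℤ)))
    [LocallyOfFiniteType f] [QuasiCompact f] (r : ℕ) (hr : topologicalKrullDim X ≤ r) :
    ∃ C p₀ : ℕ, ∀ (F : Type u) [Field F], Finite F →
      Finite (Spec (CommRingCat.of F) ⟶ X) ∧
      Nat.card (Spec (CommRingCat.of F) ⟶ X) ≤ C * Nat.card F ^ r ∧
      (p₀ ≤ ringChar F →
        Nat.card F * Nat.card (Spec (CommRingCat.of F) ⟶ X) ≤ C * Nat.card F ^ r) := by
  classical
  haveI : CompactSpace X := QuasiCompact.compactSpace_of_compactSpace f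
  let 𝒰 := X.affineCover.finiteSubcover
  haveI : Fintype 𝒰.I₀ := Fintype.ofFinite _
  have hft : ∀ j, Algebra.FiniteType ℤ Γ(𝒰.X j, ⊤) := by
    intro j
    obtain ⟨φ, hφ⟩ : ∃ φ, Spec.map φ = (𝒰.X j).isoSpec.inv ≫ 𝒰.f j ≫ f :=
      ⟨_, Spec.map_preimage _⟩
    have h1 : RingHom.FiniteType φ.hom := by
      rw [← HasRingHomProperty.Spec_iff (P := @LocallyOfFiniteType), hφ]
      infer_instance
    have h2 : RingHom.FiniteType (φ.hom.comp (ULift.ringEquiv.symm.toRingHom : ℤ →+* ULift.{u} ℤ)) :=
      h1.comp (RingHom.FiniteType.of_surjective _ ULift.ringEquiv.symm.surjective)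
    rw [← RingHom.finiteType_algebraMap,
      RingHom.ext_int (algebraMap ℤ Γ(𝒰.X j, ⊤))
        (φ.hom.comp (ULift.ringEquiv.symm.toRingHom : ℤ →+* ULift.{u} ℤ))]
    exact h2
  have hdim : ∀ j, ringKrullDim Γ(𝒰.X j, ⊤) ≤ r := by
    intro j
    rw [← PrimeSpectrum.topologicalKrullDim_eq_ringKrullDim]
    refine le_trans ?_ hr
    exact ((𝒰.f j).isOpenEmbedding.isInducing.comp
      (𝒰.X j).isoSpec.inv.homeomorph.isInducing).topologicalKrullDim_le
  choose C p₀ hC using fun j => exists_bound_affine.{u, u} Γ(𝒰.X j, ⊤) r (hdim j)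
  refine ⟨∑ j, C j, Finset.univ.sup p₀, fun F _ hF => ?_⟩
  let e : ∀ j, (Γ(𝒰.X j, ⊤) →+* F) → (Spec (CommRingCat.of F) ⟶ X) := fun j φ =>
    Spec.map (CommRingCat.ofHom φ) ≫ (𝒰.X j).isoSpec.inv ≫ 𝒰.f j
  have hsurj : Function.Surjective (fun p : Σ j, (Γ(𝒰.X j, ⊤) →+* F) => e p.1 p.2) := by
    intro g
    obtain ⟨j, y, hy⟩ := 𝒰.exists_eq (g (IsLocalRing.closedPoint F))
    have hr : Set.range g ⊆ Set.range (𝒰.f j) := by
      rintro _ ⟨t, rfl⟩
      exact ⟨y, by rw [hy, Subsingleton.elim (IsLocalRing.closedPoint F) t]⟩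
    refine ⟨⟨j, (Spec.preimage (IsOpenImmersion.lift (𝒰.f j) g hr ≫ (𝒰.X j).isoSpec.hom)).hom⟩, ?_⟩
    simp [e]
  haveI : ∀ j, Finite (Γ(𝒰.X j, ⊤) →+* F) := fun j => by
    haveI := hft j
    exact PointBound.finite_hom _ F
  have hle : Nat.card (Spec (CommRingCat.of F) ⟶ X) ≤ ∑ j, Nat.card (Γ(𝒰.X j, ⊤) →+* F) := by
    rw [← Nat.card_sigma]
    exact Nat.card_le_card_of_surjective _ hsurj
  refine ⟨Finite.of_surjective _ hsurj, hle.trans ?_, fun hp => ?_⟩
  · rw [Finset.sum_mul]
    exact Finset.sum_le_sum fun j _ => (hC j F hF).1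
  · refine (Nat.mul_le_mul_left _ hle).trans ?_
    rw [Finset.mul_sum, Finset.sum_mul]
    exact Finset.sum_le_sum fun j _ => (hC j F hF).2
      ((Finset.le_sup (Finset.mem_univ j)).trans hp)

theorem isJacobsonRing_int : IsJacobsonRing ℤ := by
  rw [isJacobsonRing_iff_prime_eq]
  intro P hP
  rcases eq_or_ne P ⊥ with rfl | hne
  · refine le_antisymm (fun x hx => ?_) Ideal.le_jacobson
    obtain ⟨p, hp1, hp⟩ := Nat.exists_infinite_primes (x.natAbs + 1)
    haveI : (Ideal.span {(p : ℤ)}).IsMaximal :=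
      Ideal.IsPrime.isMaximal ((Ideal.span_singleton_prime (by exact_mod_cast hp.ne_zero)).2
        (Nat.prime_iff_prime_int.1 hp)) (by
          rw [Ne, Ideal.span_singleton_eq_bot]; exact_mod_cast hp.ne_zero)
    have hxp : x ∈ Ideal.span {(p : ℤ)} :=
      (Submodule.mem_sInf.1 hx) _ ⟨bot_le, inferInstance⟩
    rw [Ideal.mem_span_singleton, Int.natCast_dvd] at hxp
    rw [Ideal.mem_bot]
    by_contra hx0
    have := Nat.le_of_dvd (Int.natAbs_pos.2 hx0) hxp
    omega
  · haveI := hP.isMaximal hne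
    exact Ideal.jacobson_eq_self_of_isMaximal

/-- The residue field at a closed point of a scheme locally of finite type over `ℤ` is finite. -/
theorem finite_residueField {X : Scheme.{u}} (f : X ⟶ Spec (CommRingCat.of (ULift.{u} ℤ)))
    [LocallyOfFiniteType f] {x : X} (hx : IsClosed ({x} : Set X)) :
    Finite (X.residueField x) := by
  haveI := isJacobsonRing_int
  haveI : IsJacobsonRing (ULift.{u} ℤ) :=
    isJacobsonRing_of_surjective
      ⟨(ULift.ringEquiv.symm : ℤ ≃+* ULift.{u} ℤ).toRingHom, fun y => ⟨y.down, rfl⟩⟩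
  haveI : JacobsonSpace (Spec (CommRingCat.of (ULift.{u} ℤ))) := inferInstance
  haveI := isClosed_singleton_iff_isClosedImmersion.mp hx
  have hfi : IsFinite (X.fromSpecResidueField x ≫ f) :=
    (isFinite_iff_locallyOfFiniteType_of_jacobsonSpace).mpr inferInstance
  obtain ⟨φ, hφ⟩ : ∃ φ, Spec.map φ = X.fromSpecResidueField x ≫ f := ⟨_, Spec.map_preimage _⟩
  rw [← hφ, IsFinite.SpecMap_iff] at hfi
  have hfin : (algebraMap ℤ (X.residueField x)).Finite := by
    rw [RingHom.ext_int (algebraMap ℤ (X.residueField x))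
      (φ.hom.comp (ULift.ringEquiv.symm.toRingHom : ℤ →+* ULift.{u} ℤ))]
    exact hfi.comp (RingHom.Finite.of_surjective _ ULift.ringEquiv.symm.surjective)
  haveI : Module.Finite ℤ (X.residueField x) := RingHom.finite_algebraMap.1 hfin
  obtain ⟨p, hp⟩ := CharP.exists (X.residueField x)
  haveI := hp
  rcases CharP.char_is_prime_or_zero (X.residueField x) p with hpp | rfl
  · haveI : Fact p.Prime := ⟨hpp⟩
    letI : Algebra (ZMod p) (X.residueField x) := ZMod.algebra _ p
    haveI : IsScalarTower ℤ (ZMod p) (X.residueField x) :=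
      IsScalarTower.of_algebraMap_eq' (RingHom.ext_int _ _)
    haveI := Module.Finite.of_restrictScalars_finite ℤ (ZMod p) (X.residueField x)
    exact Module.finite_of_finite (ZMod p)
  · haveI := CharP.charP_to_charZero (X.residueField x)
    exact absurd (isField_of_isIntegral_of_isField (R := ℤ) (S := X.residueField x)
      Int.cast_injective (Field.toIsField _)) Int.not_isField

theorem apply_closedPoint {X : Scheme.{u}} {K : Type u} [Field K] (x : X)
    (φ : X.residueField x ⟶ CommRingCat.of K) :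
    (Spec.map φ ≫ X.fromSpecResidueField x) (IsLocalRing.closedPoint K) = x := by
  exact Scheme.fromSpecResidueField_apply x _

/-- There are at most as many closed points of norm `q` as points with values in `F_q`. -/
theorem exists_bound_closedPoints {X : Scheme.{u}} (f : X ⟶ Spec (CommRingCat.of (ULift.{u} ℤ)))
    [LocallyOfFiniteType f] [QuasiCompact f] (r : ℕ) (hr : topologicalKrullDim X ≤ r) :
    ∃ C p₀ : ℕ, ∀ n : ℕ,
      Finite {x : X // IsClosed ({x} : Set X) ∧ Nat.card (X.residueField x) = n} ∧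
      Nat.card {x : X // IsClosed ({x} : Set X) ∧ Nat.card (X.residueField x) = n} ≤ C * n ^ r ∧
      (p₀ ≤ n.minFac →
        n * Nat.card {x : X // IsClosed ({x} : Set X) ∧ Nat.card (X.residueField x) = n} ≤
          C * n ^ r) := by
  classical
  obtain ⟨C, p₀, hC⟩ := exists_bound_scheme f r hr
  refine ⟨C, p₀, fun n => ?_⟩
  rcases isEmpty_or_nonempty {x : X // IsClosed ({x} : Set X) ∧ Nat.card (X.residueField x) = n}
    with h | ⟨⟨x₀, hx₀, hn⟩⟩
  · exact ⟨inferInstance, by simp, fun _ => by simp⟩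
  haveI := finite_residueField f hx₀
  obtain ⟨hfin, h1, h2⟩ := hC (X.residueField x₀) inferInstance
  rw [hn] at h1 h2
  have hiso : ∀ x : {x : X // IsClosed ({x} : Set X) ∧ Nat.card (X.residueField x) = n},
      Nonempty (X.residueField x.1 →+* X.residueField x₀) := by
    intro x
    haveI := finite_residueField f x.2.1
    letI := Fintype.ofFinite (X.residueField x.1)
    letI := Fintype.ofFinite (X.residueField x₀)
    exact ⟨(FiniteField.ringEquivOfCardEq (K := X.residueField x.1) (K' := X.residueField x₀)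
      (by rw [Fintype.card_eq_nat_card, Fintype.card_eq_nat_card, x.2.2, hn])).toRingHom⟩
  let e : {x : X // IsClosed ({x} : Set X) ∧ Nat.card (X.residueField x) = n} →
      (Spec (CommRingCat.of (X.residueField x₀)) ⟶ X) := fun x =>
    Spec.map (CommRingCat.ofHom (hiso x).some) ≫ X.fromSpecResidueField x.1
  have he : Function.Injective e := by
    intro a b hab
    refine Subtype.ext ?_
    have := congrArg (fun g : Spec (CommRingCat.of (X.residueField x₀)) ⟶ X =>
      g (IsLocalRing.closedPoint _)) hab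
    rw [apply_closedPoint] at this
    rw [apply_closedPoint] at this
    exact this
  have hle := Nat.card_le_card_of_injective e he
  refine ⟨Finite.of_injective e he, hle.trans h1, fun hp => (Nat.mul_le_mul_left _ hle).trans (h2 ?_)⟩
  refine hp.trans (Nat.minFac_le_of_dvd (CharP.char_is_prime (X.residueField x₀) (ringChar (X.residueField x₀))).two_le ?_)
  rw [← hn]
  haveI : Fintype (X.residueField x₀) := Fintype.ofFinite _
  rw [Nat.card_eq_fintype_card]
  obtain ⟨m, -, hcard⟩ := FiniteField.card (X.residueField x₀) (ringChar (X.residueField x₀))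
  rw [hcard]
  exact dvd_pow_self _ m.ne_zero

end Groth.Agent.Lib.Zeta.ArithScheme
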