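import Groth.Agent.Lib.Zeta.ArithZeta

/-!
A scheme of finite type over a finite field as a scheme of finite type over `ℤ`.
-/

universe u

open CategoryTheory AlgebraicGeometry

namespace Groth.Agent.Lib.Zeta.FiniteBase

variable (k : Type u) [Field k]

/-- The structure map `Spec k ⟶ Spec ℤ`. -/
noncomputable def toInt : Spec (CommRingCat.of k) ⟶ Spec (CommRingCat.of (ULift.{u} ℤ)) :=
  Spec.map (CommRingCat.ofHom ((Int.castRingHom k).comp ULift.ringEquiv.toRingHom))

theorem locallyOfFiniteType_toInt [Finite k] : LocallyOfFiniteType (toInt k) := by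
  rw [toInt, HasRingHomProperty.Spec_iff (P := @LocallyOfFiniteType)]
  letI := ((Int.castRingHom k).comp
    (ULift.ringEquiv.toRingHom : ULift.{u} ℤ →+* ℤ)).toAlgebra
  exact RingHom.finiteType_algebraMap.2 (inferInstance : Algebra.FiniteType (ULift.{u} ℤ) k)

theorem quasiCompact_toInt : QuasiCompact (toInt k) := inferInstance

end Groth.Agent.Lib.Zeta.FiniteBase
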