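import Groth.Agent.Lib.Zeta.ZetaFun
import Mathlib.FieldTheory.Finite.Extension
import Mathlib.Algebra.Field.ULift

/-!
Zeta functions through point counts in all finite extensions.
-/

universe u

open CategoryTheory AlgebraicGeometry

namespace Groth.Agent.Lib.Zeta.Ext

variable (k : Type u) [Field k] [Finite k]

/-- A finite field extension of each degree, in the universe of `k`. -/
theorem exists_extension (m : ℕ) (hm : m ≠ 0) :
    ∃ (K : Type u) (_ : Field K) (_ : Algebra k K), Finite K ∧ Module.finrank k K = m := by
  obtain ⟨p, hp⟩ := CharP.exists k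
  haveI : Fact p.Prime := ⟨CharP.char_is_prime k p⟩
  haveI : NeZero m := ⟨hm⟩
  exact ⟨ULift.{u} (FiniteField.Extension k p m), inferInstance, inferInstance, inferInstance,
    (LinearEquiv.finrank_eq ULift.moduleEquiv).trans (FiniteField.finrank_extension k p m)⟩

variable {k} {X : Scheme.{u}} (f : X ⟶ Spec (CommRingCat.of k)) [LocallyOfFiniteType f]
  [QuasiCompact f]

theorem nPts_eq_of_points {m : ℕ} {c : ℕ}
    (h : ∀ (K : Type u) [Field K] [Algebra k K] [Finite K],
      Module.finrank k K = m → SgaExt.pointCount f K = c) (hm : m ≠ 0) :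
    _root_.Zeta.nPts f m = c := by
  obtain ⟨K, _, _, _, rfl⟩ := exists_extension k m hm
  rw [← Points.pointCount_eq_nPts f K, h K rfl]

end Groth.Agent.Lib.Zeta.Ext
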