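import Mathlib.Analysis.SpecificLimits.Normed
import Mathlib.Analysis.Normed.Ring.InfiniteSum
import Mathlib.Analysis.SpecialFunctions.Exp
import Mathlib.Algebra.BigOperators.Field
import Mathlib.Data.Finsupp.Basic
import Mathlib.Topology.Algebra.InfiniteSum.Real

/-!
Euler products over an arbitrary index set, as sums over finitely supported exponent families.
-/

namespace Groth.Agent.Lib.Zeta.EulerProd

variable {P : Type*}

/-- `∏ g(x)^(m x)`. -/
noncomputable def monom {R : Type*} [CommMonoid R] (g : P → R) (α : P →₀ ℕ) : R :=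
  α.prod fun x m => g x ^ m

theorem norm_monom (g : P → ℂ) (α : P →₀ ℕ) : ‖monom g α‖ = monom (fun x => ‖g x‖) α := by
  simp [monom, Finsupp.prod, norm_prod]

theorem monom_nonneg {g : P → ℝ} (hg : ∀ x, 0 ≤ g x) (α : P →₀ ℕ) : 0 ≤ monom g α :=
  Finset.prod_nonneg fun x _ => pow_nonneg (hg x) _

variable [DecidableEq P]

/-- Splitting off one exponent. -/
noncomputable def insertEquiv (a : P) (S : Finset P) (ha : a ∉ S) :
    {α : P →₀ ℕ // α.support ⊆ insert a S} ≃ ℕ × {α : P →₀ ℕ // α.support ⊆ S} where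
  toFun α := (α.1 a, ⟨α.1.erase a, fun x hx => by
    rw [Finsupp.support_erase, Finset.mem_erase] at hx
    exact (Finset.mem_insert.1 (α.2 hx.2)).resolve_left hx.1⟩)
  invFun p := ⟨p.2.1 + Finsupp.single a p.1, fun x hx => by
    rcases Finset.mem_union.1 (Finsupp.support_add hx) with h | h
    · exact Finset.mem_insert_of_mem (p.2.2 h)
    · exact Finset.mem_insert.2 (Or.inl (Finset.mem_singleton.1 (Finsupp.support_single_subset h)))⟩
  left_inv α := Subtype.ext (Finsupp.erase_add_single a α.1)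
  right_inv p := by
    have h0 : p.2.1 a = 0 := Finsupp.notMem_support_iff.1 fun h => ha (p.2.2 h)
    refine Prod.ext (by simp [h0]) (Subtype.ext ?_)
    ext x
    rcases eq_or_ne x a with rfl | h
    · simp [h0]
    · simp [h, Finsupp.single_eq_of_ne h]

theorem monom_insertEquiv_symm {R : Type*} [CommMonoid R] (g : P → R) (a : P) (S : Finset P)
    (ha : a ∉ S) (p : ℕ × {α : P →₀ ℕ // α.support ⊆ S}) :
    monom g ((insertEquiv a S ha).symm p).1 = g a ^ p.1 * monom g p.2.1 := by
  show monom g (p.2.1 + Finsupp.single a p.1) = _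
  rw [monom, Finsupp.prod_add_index' (fun _ => pow_zero _) (fun _ _ _ => pow_add _ _ _),
    Finsupp.prod_single_index (h := fun x m => g x ^ m) (pow_zero _), mul_comm, monom]

theorem hasSum_finset (g : P → ℂ) (S : Finset P) (hg : ∀ x ∈ S, ‖g x‖ < 1) :
    Summable (fun α : {α : P →₀ ℕ // α.support ⊆ S} => ‖monom g α.1‖) ∧
      HasSum (fun α : {α : P →₀ ℕ // α.support ⊆ S} => monom g α.1) (∏ x ∈ S, (1 - g x)⁻¹) := by
  induction S using Finset.induction_on with
  | empty =>
    haveI : Unique {α : P →₀ ℕ // α.support ⊆ (∅ : Finset P)} :=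
      { default := ⟨0, by simp⟩
        uniq := fun α => Subtype.ext (Finsupp.support_eq_empty.1 (Finset.subset_empty.1 α.2)) }
    refine ⟨Summable.of_finite, ?_⟩
    convert hasSum_fintype (fun α : {α : P →₀ ℕ // α.support ⊆ (∅ : Finset P)} => monom g α.1)
    rw [Fintype.sum_unique, Finset.prod_empty]
    have h0 : (default : {α : P →₀ ℕ // α.support ⊆ (∅ : Finset P)}).1 = 0 :=
      Finsupp.support_eq_empty.1 (Finset.subset_empty.1 (default : {α : P →₀ ℕ // α.support ⊆ (∅ : Finset P)}).2)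
    rw [monom, h0, Finsupp.prod_zero_index]
  | insert a S ha ih =>
    have h1 := hg a (Finset.mem_insert_self a S)
    obtain ⟨hs, hS⟩ := ih fun x hx => hg x (Finset.mem_insert_of_mem hx)
    have hgeo := hasSum_geometric_of_norm_lt_one h1
    have hgn : Summable fun n : ℕ => ‖g a ^ n‖ := by
      simpa [norm_pow] using summable_geometric_of_lt_one (norm_nonneg _) h1
    have e : (fun α : {α : P →₀ ℕ // α.support ⊆ insert a S} => monom g α.1) ∘
        (insertEquiv a S ha).symm = fun p => g a ^ p.1 * monom g p.2.1 :=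
      funext fun p => monom_insertEquiv_symm g a S ha p
    constructor
    · rw [← (insertEquiv a S ha).symm.summable_iff]
      have h2 : Summable fun p : ℕ × {α : P →₀ ℕ // α.support ⊆ S} => ‖g a ^ p.1‖ * ‖monom g p.2.1‖ :=
        Summable.mul_of_nonneg (f := fun n : ℕ => ‖g a ^ n‖)
          (g := fun α : {α : P →₀ ℕ // α.support ⊆ S} => ‖monom g α.1‖) hgn hs
          (fun _ => norm_nonneg _) (fun _ => norm_nonneg _)
      refine h2.congr fun p => ?_
      rw [← norm_mul, Function.comp_apply, monom_insertEquiv_symm]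
    · rw [← (insertEquiv a S ha).symm.hasSum_iff, e, Finset.prod_insert ha]
      have hm : Summable fun p : ℕ × {α : P →₀ ℕ // α.support ⊆ S} => g a ^ p.1 * monom g p.2.1 :=
        summable_mul_of_summable_norm (f := fun n : ℕ => g a ^ n)
          (g := fun α : {α : P →₀ ℕ // α.support ⊆ S} => monom g α.1) hgn hs
      exact HasSum.mul (f := fun n : ℕ => g a ^ n)
        (g := fun α : {α : P →₀ ℕ // α.support ⊆ S} => monom g α.1) hgeo hS hm

theorem inv_one_sub_le_exp {r ρ : ℝ} (hr : 0 ≤ r) (hrρ : r ≤ ρ) (hρ : ρ < 1) :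
    (1 - r)⁻¹ ≤ Real.exp (r / (1 - ρ)) := by
  refine le_trans ?_ (Real.add_one_le_exp _)
  have h1 : 0 < 1 - r := by linarith
  have h2 : 0 < 1 - ρ := by linarith
  rw [inv_le_iff_one_le_mul₀ h1, add_mul, div_mul_eq_mul_div, one_mul, ← sub_le_iff_le_add,
    le_div_iff₀ h2]
  nlinarith

/-- The sum over all exponent families converges absolutely and does not vanish. -/
theorem summable_and_tsum_ne_zero (g : P → ℂ) {ρ : ℝ} (hρ : ρ < 1) (hgρ : ∀ x, ‖g x‖ ≤ ρ)
    (hg : Summable fun x => ‖g x‖) :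
    Summable (fun α : P →₀ ℕ => ‖monom g α‖) ∧ (∑' α : P →₀ ℕ, monom g α) ≠ 0 := by
  have hlt : ∀ x, ‖g x‖ < 1 := fun x => (hgρ x).trans_lt hρ
  have hsum : Summable (fun α : P →₀ ℕ => ‖monom g α‖) := by
    refine summable_of_sum_le (fun _ => norm_nonneg _)
      (c := Real.exp ((∑' x, ‖g x‖) / (1 - ρ))) fun T => ?_
    set S := T.biUnion Finsupp.support with hS
    have hT : ∀ α ∈ T, α.support ⊆ S := fun α hα => Finset.subset_biUnion_of_mem Finsupp.support hα
    let g' : P → ℂ := fun x => (‖g x‖ : ℂ)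
    obtain ⟨-, h⟩ := hasSum_finset g' S fun x _ => by simpa [g'] using hlt x
    have h' : HasSum (fun α : {α : P →₀ ℕ // α.support ⊆ S} => ‖monom g α.1‖)
        (∏ x ∈ S, (1 - ‖g x‖)⁻¹) := by
      rw [← Complex.hasSum_ofReal]
      convert h using 1
      · ext α
        simp [g', norm_monom, monom, Finsupp.prod]
      · simp [g']
    calc ∑ α ∈ T, ‖monom g α‖
        = ∑ α ∈ T.subtype (fun α => α.support ⊆ S), ‖monom g α.1‖ := by
          rw [Finset.sum_subtype_eq_sum_filter (f := fun α => ‖monom g α‖),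
            Finset.filter_true_of_mem hT]
      _ ≤ ∏ x ∈ S, (1 - ‖g x‖)⁻¹ := sum_le_hasSum _ (fun _ _ => norm_nonneg _) h'
      _ ≤ ∏ x ∈ S, Real.exp (‖g x‖ / (1 - ρ)) :=
          Finset.prod_le_prod (fun x _ => inv_nonneg.2 (by linarith [hlt x])) fun x _ =>
            inv_one_sub_le_exp (norm_nonneg _) (hgρ x) hρ
      _ ≤ Real.exp ((∑' x, ‖g x‖) / (1 - ρ)) := by
          rw [← Real.exp_sum, Real.exp_le_exp, ← Finset.sum_div]
          exact div_le_div_of_nonneg_right (hg.sum_le_tsum _ fun _ _ => norm_nonneg _) (by linarith)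
  refine ⟨hsum, fun h0 => ?_⟩
  set δ := Real.exp (-∑' x, ‖g x‖) with hδ
  have hδ0 : 0 < δ := Real.exp_pos _
  have hs := hsum.hasSum
  obtain ⟨T, hT⟩ := Filter.eventually_atTop.1
    (Metric.tendsto_nhds.1 hs δ hδ0)
  set S := T.biUnion Finsupp.support with hS
  let A : Set (P →₀ ℕ) := {α | α.support ⊆ S}
  obtain ⟨-, hA⟩ := hasSum_finset g S fun x _ => hlt x
  have hsC : Summable fun α => monom g α := hsum.of_norm
  have hsplit := hsC.tsum_subtype_add_tsum_subtype_compl A
  rw [show ∑' α : A, monom g α = ∏ x ∈ S, (1 - g x)⁻¹ from hA.tsum_eq, h0] at hsplit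
  have hlow : δ ≤ ‖∏ x ∈ S, (1 - g x)⁻¹‖ := by
    rw [norm_prod, hδ]
    calc Real.exp (-∑' x, ‖g x‖) ≤ Real.exp (∑ x ∈ S, -‖g x‖) := by
          rw [Real.exp_le_exp, Finset.sum_neg_distrib, neg_le_neg_iff]
          exact hg.sum_le_tsum _ fun _ _ => norm_nonneg _
      _ = ∏ x ∈ S, Real.exp (-‖g x‖) := Real.exp_sum _ _
      _ ≤ ∏ x ∈ S, ‖(1 - g x)⁻¹‖ := Finset.prod_le_prod (fun _ _ => (Real.exp_pos _).le) fun x _ => by
          rw [norm_inv, Real.exp_neg]
          have hne : 0 < ‖1 - g x‖ := norm_pos_iff.2 fun h => by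
            have := hlt x
            rw [← sub_eq_zero.1 h, norm_one] at this
            exact lt_irrefl _ this
          refine inv_anti₀ hne ((norm_sub_le _ _).trans ?_)
          rw [norm_one, add_comm]
          exact Real.add_one_le_exp _
  have hup : ‖∑' α : ↑Aᶜ, monom g α‖ < δ := by
    refine (norm_tsum_le_tsum_norm (hsum.subtype _)).trans_lt ?_
    have hTA : ∀ α ∈ T, α ∈ A := fun α hα => Finset.subset_biUnion_of_mem Finsupp.support hα
    have h2 := hsum.tsum_subtype_add_tsum_subtype_compl A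
    have h3 : ∑ α ∈ T, ‖monom g α‖ ≤ ∑' α : A, ‖monom g α‖ := by
      calc ∑ α ∈ T, ‖monom g α‖ = ∑ α ∈ T.subtype (· ∈ A), ‖monom g α.1‖ := by
            rw [Finset.sum_subtype_eq_sum_filter (f := fun α => ‖monom g α‖),
              Finset.filter_true_of_mem hTA]
        _ ≤ _ := Summable.sum_le_tsum (L := SummationFilter.unconditional ↥A)
            (f := fun α : A => ‖monom g α.1‖) _ (fun _ _ => norm_nonneg _) (hsum.subtype (· ∈ A))
    have h4 := hT T le_rfl
    rw [Real.dist_eq, abs_lt] at h4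
    have h5 : (∑' α : ↑Aᶜ, ‖monom g α.1‖) = (∑' α, ‖monom g α‖) - ∑' α : A, ‖monom g α.1‖ := by
      linarith
    rw [h5]
    linarith
  rw [add_eq_zero_iff_eq_neg.1 hsplit, norm_neg] at hlow
  linarith

end Groth.Agent.Lib.Zeta.EulerProd
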