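import Groth.Agent.Lib.Zeta.ArithScheme
import Groth.Agent.Lib.Zeta.EulerProd
import Groth.Prelude.Def_W4c1zetahwZeta
import Mathlib.NumberTheory.LSeries.Convergence
import Mathlib.Analysis.SpecialFunctions.Pow.Real
import Mathlib.Analysis.PSeries

/-!
The Dirichlet series of an arithmetic scheme of dimension at most `r` converges absolutely,
without zeros, for `Re s > r`.
-/

universe u

open CategoryTheory AlgebraicGeometry

set_option linter.style.haveILetI false

namespace Groth.Agent.Lib.Zeta.ArithZeta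

/-- Powers of a prime below a fixed bound have summable negative real powers. -/
theorem summable_indicator_small_primePow (p₀ : ℕ) {t : ℝ} (ht : t < 0) :
    Summable (Set.indicator {n : ℕ | n.minFac < p₀ ∧ IsPrimePow n} fun n => (n : ℝ) ^ t) := by
  classical
  let F : ℕ → ℕ → ℝ := fun p =>
    Set.indicator (Set.range fun m : ℕ => p ^ m) fun n => (n : ℝ) ^ t
  have hnn : ∀ p n, 0 ≤ F p n := fun p n => by
    apply Set.indicator_nonneg
    intro m _
    positivity
  have hF : ∀ p ∈ (Finset.range p₀).filter Nat.Prime, Summable (F p) := by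
    intro p hp
    have h2 : p.Prime := (Finset.mem_filter.1 hp).2
    refine (Function.Injective.summable_iff (Nat.pow_right_injective h2.two_le)
      (f := F p) fun n hn => Set.indicator_of_notMem hn _).1 ?_
    have hlt : (p : ℝ) ^ t < 1 :=
      Real.rpow_lt_one_of_one_lt_of_neg (by exact_mod_cast h2.one_lt) ht
    refine (summable_geometric_of_lt_one (Real.rpow_nonneg (Nat.cast_nonneg p) t) hlt).congr
      fun m => ?_
    rw [Function.comp_apply, show F p (p ^ m) = ((p ^ m : ℕ) : ℝ) ^ t from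
        Set.indicator_of_mem (show p ^ m ∈ Set.range fun m : ℕ => p ^ m from ⟨m, rfl⟩) _,
      Nat.cast_pow,
      ← Real.rpow_natCast (p : ℝ) m, ← Real.rpow_mul (Nat.cast_nonneg p), mul_comm,
      Real.rpow_mul (Nat.cast_nonneg p), Real.rpow_natCast]
  refine Summable.of_nonneg_of_le (fun n => Set.indicator_nonneg (fun m _ => by positivity) n)
    (fun n => ?_) (summable_sum hF)
  by_cases hn : n ∈ {n : ℕ | n.minFac < p₀ ∧ IsPrimePow n}
  · rw [Set.indicator_of_mem hn]
    obtain ⟨h1, q, m, hq, hm, rfl⟩ := hn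
    have hq' : q.Prime := hq.nat_prime
    rw [Nat.pow_minFac hm.ne', hq'.minFac_eq] at h1
    refine le_of_eq_of_le ?_ (Finset.single_le_sum (f := fun p => F p (q ^ m))
      (fun p _ => hnn p _) (Finset.mem_filter.2 ⟨Finset.mem_range.2 h1, hq'⟩))
    exact (Set.indicator_of_mem (show q ^ m ∈ Set.range fun m : ℕ => q ^ m from ⟨m, rfl⟩)
      (fun n : ℕ => (n : ℝ) ^ t)).symm
  · rw [Set.indicator_of_notMem hn]
    exact Finset.sum_nonneg fun p _ => hnn p _

/-- A natural power with exponent `-s` of a product. -/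
theorem natCast_prod_cpow {ι : Type*} (t : Finset ι) (a : ι → ℕ) (s : ℂ) :
    ((∏ i ∈ t, a i : ℕ) : ℂ) ^ s = ∏ i ∈ t, ((a i : ℂ) ^ s) := by
  induction t using Finset.cons_induction with
  | empty => simp
  | cons b t hb ih => rw [Finset.prod_cons, Finset.prod_cons, Nat.cast_mul, Complex.natCast_mul_natCast_cpow, ih]

theorem natCast_pow_cpow (a m : ℕ) (s : ℂ) : ((a ^ m : ℕ) : ℂ) ^ s = ((a : ℂ) ^ s) ^ m := by
  induction m with
  | zero => simp
  | succ m ih => rw [pow_succ, Nat.cast_mul, Complex.natCast_mul_natCast_cpow, ih, pow_succ]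

theorem summable_and_ne_zero {X : Scheme.{u}} (f : X ⟶ Spec (CommRingCat.of (ULift.{u} ℤ)))
    [LocallyOfFiniteType f] [QuasiCompact f] (r : ℕ) (hr : topologicalKrullDim X ≤ r) (s : ℂ)
    (hs : (r : ℝ) < s.re) :
    LSeriesSummable (_root_.Zeta.arithCoeff X) s ∧ LSeries (_root_.Zeta.arithCoeff X) s ≠ 0 := by
  classical
  set σ := s.re with hσ
  have hσ0 : 0 < σ := lt_of_le_of_lt (Nat.cast_nonneg r) hs
  let P := {x : X // IsClosed ({x} : Set X)}
  let N : P → ℕ := fun x => Nat.card (X.residueField x.1)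
  have hfin : ∀ x : P, Finite (X.residueField x.1) := fun x =>
    ArithScheme.finite_residueField f x.2
  have hN2 : ∀ x, 2 ≤ N x := fun x => by
    haveI := hfin x
    exact Finite.one_lt_card
  let g : P → ℂ := fun x => (N x : ℂ) ^ (-s)
  have hgn : ∀ x, ‖g x‖ = (N x : ℝ) ^ (-σ) := fun x => by
    rw [Complex.norm_natCast_cpow_of_pos (by have := hN2 x; omega), Complex.neg_re, hσ]
  set ρ : ℝ := (2 : ℝ) ^ (-σ) with hρ
  have hρ1 : ρ < 1 := Real.rpow_lt_one_of_one_lt_of_neg one_lt_two (neg_lt_zero.2 hσ0)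
  have hgρ : ∀ x, ‖g x‖ ≤ ρ := fun x => by
    rw [hgn, hρ]
    exact Real.rpow_le_rpow_of_nonpos two_pos (by exact_mod_cast hN2 x) (neg_nonpos.2 hσ0.le)
  -- summability over closed points
  obtain ⟨C, p₀, hC⟩ := ArithScheme.exists_bound_closedPoints f r hr
  have hg : Summable fun x => ‖g x‖ := by
    refine (Equiv.sigmaFiberEquiv N).summable_iff.1 ?_
    have hfib : ∀ n, Finite {x : P // N x = n} := fun n => by
      haveI := (hC n).1
      exact Finite.of_injective
        (β := {x : X // IsClosed ({x} : Set X) ∧ Nat.card (X.residueField x) = n})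
        (fun x => ⟨x.1.1, x.1.2, x.2⟩) fun a b h =>
          Subtype.ext (Subtype.ext (congrArg (fun x : {x : X // IsClosed ({x} : Set X) ∧
            Nat.card (X.residueField x) = n} => x.1) h))
    have hcard : ∀ n, Nat.card {x : P // N x = n} =
        Nat.card {x : X // IsClosed ({x} : Set X) ∧ Nat.card (X.residueField x) = n} := fun n =>
      Nat.card_congr
        { toFun := fun x => ⟨x.1.1, x.1.2, x.2⟩
          invFun := fun x => ⟨⟨x.1, x.2.1⟩, x.2.2⟩
          left_inv := fun _ => rfl
          right_inv := fun _ => rfl }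
    refine (summable_sigma_of_nonneg fun _ => norm_nonneg _).2 ⟨fun n => ?_, ?_⟩
    · haveI := hfib n
      exact Summable.of_finite
    set b : ℕ → ℝ := fun n => (C : ℝ) * (n : ℝ) ^ ((r : ℝ) - 1 - σ) +
      (C : ℝ) * Set.indicator {n : ℕ | n.minFac < p₀ ∧ IsPrimePow n}
        (fun n => (n : ℝ) ^ ((r : ℝ) - σ)) n with hb
    have hbsum : Summable b :=
      ((Real.summable_nat_rpow.2 (by linarith)).mul_left _).add
        ((summable_indicator_small_primePow p₀ (by linarith)).mul_left _)
    refine Summable.of_nonneg_of_le (fun n => tsum_nonneg fun _ => norm_nonneg _) (fun n => ?_) hbsum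
    haveI := hfib n
    letI := Fintype.ofFinite {x : P // N x = n}
    rw [tsum_fintype]
    have hterm : ∀ x : {x : P // N x = n},
        ‖g (Equiv.sigmaFiberEquiv N ⟨n, x⟩)‖ = (n : ℝ) ^ (-σ) := fun x => by
      rw [hgn]
      exact congrArg (fun k : ℕ => (k : ℝ) ^ (-σ)) x.2
    rw [Finset.sum_congr rfl (fun x _ => hterm x), Finset.sum_const, nsmul_eq_mul, Finset.card_univ,
      ← Nat.card_eq_fintype_card, hcard]
    have hb0 : 0 ≤ b n := by
      have : 0 ≤ Set.indicator {n : ℕ | n.minFac < p₀ ∧ IsPrimePow n}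
          (fun n => (n : ℝ) ^ ((r : ℝ) - σ)) n :=
        Set.indicator_nonneg (fun m _ => by positivity) n
      positivity
    rcases isEmpty_or_nonempty {x : X // IsClosed ({x} : Set X) ∧ Nat.card (X.residueField x) = n}
      with hemp | ⟨⟨x, hx, hxn⟩⟩
    · simpa using hb0
    have hpp : IsPrimePow n := by
      haveI := hfin ⟨x, hx⟩
      letI := Fintype.ofFinite (X.residueField x)
      rw [← hxn, Nat.card_eq_fintype_card]
      exact FiniteField.isPrimePow_card _
    have hn : (0 : ℝ) < n := by exact_mod_cast hpp.pos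
    obtain ⟨-, h1, h2⟩ := hC n
    by_cases hp : p₀ ≤ n.minFac
    · have h := (h2 hp)
      have h' : (Nat.card {x : X // IsClosed ({x} : Set X) ∧ Nat.card (X.residueField x) = n} : ℝ) ≤
          C * (n : ℝ) ^ ((r : ℝ) - 1) := by
        rw [Real.rpow_sub_one hn.ne', Real.rpow_natCast, ← mul_div_assoc, le_div_iff₀ hn, mul_comm]
        exact_mod_cast h
      calc _ ≤ C * (n : ℝ) ^ ((r : ℝ) - 1) * (n : ℝ) ^ (-σ) :=
            mul_le_mul_of_nonneg_right h' (by positivity)
        _ = C * (n : ℝ) ^ ((r : ℝ) - 1 - σ) := by rw [mul_assoc, ← Real.rpow_add hn]; ring_nf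
        _ ≤ b n := by
          rw [hb]
          exact le_add_of_nonneg_right (mul_nonneg (Nat.cast_nonneg _)
            (Set.indicator_nonneg (fun m _ => by positivity) n))
    · have h' : (Nat.card {x : X // IsClosed ({x} : Set X) ∧ Nat.card (X.residueField x) = n} : ℝ) ≤
          C * (n : ℝ) ^ (r : ℝ) := by
        rw [Real.rpow_natCast]
        exact_mod_cast h1
      calc _ ≤ C * (n : ℝ) ^ (r : ℝ) * (n : ℝ) ^ (-σ) :=
            mul_le_mul_of_nonneg_right h' (by positivity)
        _ = C * (n : ℝ) ^ ((r : ℝ) - σ) := by rw [mul_assoc, ← Real.rpow_add hn]; ring_nf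
        _ ≤ b n := by
          simp only [hb]
          rw [Set.indicator_of_mem (show n ∈ {n : ℕ | n.minFac < p₀ ∧ IsPrimePow n} from ⟨not_le.1 hp, hpp⟩)]
          exact le_add_of_nonneg_left (by positivity)
  -- the sum over effective cycles
  obtain ⟨hsum, hne⟩ := EulerProd.summable_and_tsum_ne_zero g hρ1 hgρ hg
  let Nt : (P →₀ ℕ) → ℕ := fun β => β.prod fun x m => N x ^ m
  have hNt : ∀ β, 0 < Nt β := fun β =>
    Finset.prod_pos fun x _ => pow_pos (by have := hN2 x; omega) _
  have hmon : ∀ β, EulerProd.monom g β = (Nt β : ℂ) ^ (-s) := fun β => by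
    simp only [EulerProd.monom, Nt, Finsupp.prod]
    rw [natCast_prod_cpow]
    exact Finset.prod_congr rfl fun x _ => (natCast_pow_cpow _ _ _).symm
  have hcount : ∀ n, _root_.Zeta.cycleNormCount X n = Nat.card {β : P →₀ ℕ // Nt β = n} := by
    intro n
    refine (Nat.card_congr (Equiv.ofBijective (fun β : {β : P →₀ ℕ // Nt β = n} =>
      (⟨Finsupp.mapDomain Subtype.val β.1, fun x hx => ?_, ?_⟩ :
        {α : X →₀ ℕ // (∀ x ∈ α.support, IsClosed ({x} : Set X)) ∧
          α.prod (fun x m => Nat.card (X.residueField x) ^ m) = n})) ⟨?_, ?_⟩)).symm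
    · obtain ⟨a, -, rfl⟩ := Finset.mem_image.1 (Finsupp.mapDomain_support hx)
      exact a.2
    · rw [Finsupp.prod_mapDomain_index_inj Subtype.val_injective]
      exact β.2
    · intro a b h
      exact Subtype.ext (Finsupp.mapDomain_injective Subtype.val_injective (congrArg Subtype.val h))
    · rintro ⟨α, h1, h2⟩
      have hmap : Finsupp.mapDomain (Subtype.val : P → X)
          (α.comapDomain Subtype.val Subtype.val_injective.injOn) = α :=
        Finsupp.mapDomain_comapDomain _ Subtype.val_injective _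
          (fun x hx => ⟨⟨x, h1 x hx⟩, rfl⟩)
      refine ⟨⟨α.comapDomain Subtype.val Subtype.val_injective.injOn, ?_⟩, Subtype.ext hmap⟩
      rw [← h2]
      conv_rhs => rw [← hmap]
      rw [Finsupp.prod_mapDomain_index_inj Subtype.val_injective]
  have hHas : HasSum (fun n => LSeries.term (_root_.Zeta.arithCoeff X) s n)
      (∑' β, EulerProd.monom g β) := by
    have h := (Equiv.sigmaFiberEquiv Nt).hasSum_iff.2 hsum.of_norm.hasSum
    refine h.sigma fun n => ?_
    rcases eq_or_ne n 0 with rfl | hn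
    · haveI : IsEmpty {β : P →₀ ℕ // Nt β = 0} := ⟨fun β => (hNt β.1).ne' β.2⟩
      rw [LSeries.term_zero]
      exact hasSum_empty
    have hterm : ∀ β : {β : P →₀ ℕ // Nt β = n},
        EulerProd.monom g β.1 = (n : ℂ) ^ (-s) := fun β => by
      rw [hmon, β.2]
    haveI : Finite {β : P →₀ ℕ // Nt β = n} := by
      by_contra hinf
      rw [not_finite_iff_infinite] at hinf
      have h1 := (hsum.comp_injective
        (Subtype.val_injective (p := fun β : P →₀ ℕ => Nt β = n))).tendsto_cofinite_zero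
      have h2 : ((fun β : P →₀ ℕ => ‖EulerProd.monom g β‖) ∘
          (Subtype.val : {β : P →₀ ℕ // Nt β = n} → (P →₀ ℕ))) = fun _ => ‖(n : ℂ) ^ (-s)‖ :=
        funext fun β => congrArg norm (hterm β)
      rw [h2] at h1
      have h3 := tendsto_nhds_unique h1 tendsto_const_nhds
      rw [Complex.norm_natCast_cpow_of_pos (Nat.pos_of_ne_zero hn)] at h3
      exact (Real.rpow_pos_of_pos (by exact_mod_cast Nat.pos_of_ne_zero hn) _).ne h3
    letI := Fintype.ofFinite {β : P →₀ ℕ // Nt β = n}
    have := hasSum_fintype (fun β : {β : P →₀ ℕ // Nt β = n} => EulerProd.monom g β.1)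
    rw [Finset.sum_congr rfl (fun β _ => hterm β), Finset.sum_const, nsmul_eq_mul,
      Finset.card_univ, ← Nat.card_eq_fintype_card, ← hcount] at this
    rw [LSeries.term_of_ne_zero hn, _root_.Zeta.arithCoeff, div_eq_mul_inv, ← Complex.cpow_neg]
    exact this
  exact ⟨hHas.summable, by rw [LSeries, hHas.tsum_eq]; exact hne⟩

theorem abscissa_le {X : Scheme.{u}} (f : X ⟶ Spec (CommRingCat.of (ULift.{u} ℤ)))
    [LocallyOfFiniteType f] [QuasiCompact f] (r : ℕ) (hr : topologicalKrullDim X ≤ r) :
    LSeries.abscissaOfAbsConv (_root_.Zeta.arithCoeff X) ≤ (r : ℝ) :=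
  LSeries.abscissaOfAbsConv_le_of_forall_lt_LSeriesSummable fun y hy =>
    (summable_and_ne_zero f r hr y (by simpa using hy)).1

end Groth.Agent.Lib.Zeta.ArithZeta
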