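import Groth.Agent.Lib.Zeta.FixFrob
import Groth.Agent.Lib.Zeta.Points
import Mathlib.AlgebraicGeometry.AlgClosed.Basic
import Mathlib.FieldTheory.Finite.GaloisField

/-!
# Closed subsets of `X ⊗ k̄` stable under the geometric Frobenius descend
-/

universe u

open CategoryTheory CategoryTheory.Limits AlgebraicGeometry

namespace Groth.Agent.Lib.Zeta.DescClosed

set_option backward.isDefEq.respectTransparency false
set_option linter.unusedSectionVars false

theorem frobeniusAlgHom_pow_apply {k R : Type*} [Field k] [Fintype k] [CommRing R] [Algebra k R]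
    (n : ℕ) (a : R) : (FiniteField.frobeniusAlgHom k R ^ n) a = a ^ (Fintype.card k ^ n) := by
  induction n generalizing a with
  | zero => simp
  | succ n ih =>
    rw [pow_succ, AlgHom.mul_apply, ih, FiniteField.coe_frobeniusAlgHom, ← pow_mul, pow_succ']

/-- Two embeddings of a finite field differ by a power of Frobenius. -/
theorem exists_eq_pow {k L K : Type*} [Field k] [Fintype k] [Field L] [Field K] [Algebra k L]
    [Algebra k K] [Module.Finite k L] (e e' : L →ₐ[k] K) :
    ∃ n : ℕ, ∀ a, e' a = e a ^ (Fintype.card k ^ n) := by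
  have : Finite L := Module.finite_of_finite k
  let := e.toRingHom.toAlgebra
  have : IsScalarTower k L K := .of_algebraMap_eq fun a => (e.commutes a).symm
  have : IsGalois k L := inferInstance
  obtain ⟨⟨n, hn⟩, hσ⟩ :=
    (FiniteField.bijective_frobeniusAlgHom_pow k L).2 (e'.restrictNormal L)
  refine ⟨n, fun a => ?_⟩
  have h := AlgHom.restrictNormal_commutes e' L a
  simp only [Algebra.algebraMap_self, RingHom.id_apply] at h
  rw [← h, ← hσ, RingHom.algebraMap_toAlgebra]
  show e ((FiniteField.frobeniusAlgHom k L ^ n) a) = _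
  rw [frobeniusAlgHom_pow_apply, map_pow]

variable {k : Type u} [Field k] [Finite k] {X : Scheme.{u}} {f : X ⟶ Spec (CommRingCat.of k)}
  (FX : X ⟶ X) (hFb : FX.base = 𝟙 _) (hle : ∀ U : X.Opens, U ≤ FX ⁻¹ᵁ U)
  (hFapp : ∀ (U : X.Opens) (s : Γ(X, U)), (FX.appLE U U (hle U)).hom s = s ^ Nat.card k)
  (K : Type u) [Field K] [Algebra k K]
  {F : FinFr.ext K f ⟶ FinFr.ext K f}
  (hF1 : F ≫ FinFr.extπ K f = FinFr.extπ K f ≫ FX)
  (hF2 : F ≫ FinFr.extStr K f = FinFr.extStr K f)

/-- A point of the base extension lying over `x`. -/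
noncomputable def pt (x : X) (e : X.residueField x ⟶ CommRingCat.of K)
    (he : Points.resMap f x ≫ e = CommRingCat.ofHom (algebraMap k K)) :
    Spec (CommRingCat.of K) ⟶ FinFr.ext K f :=
  pullback.lift (Spec.map e ≫ X.fromSpecResidueField x) (𝟙 _) (by
    rw [Category.id_comp, Category.assoc, ← Points.specMap_resMap, ← Spec.map_comp, he])

omit [Finite k] in
theorem exists_pt [IsAlgClosed K] [LocallyOfFiniteType f] {z : ↥(FinFr.ext K f)}
    (hz : IsClosed ({z} : Set ↥(FinFr.ext K f))) (x : X) (hx : FinFr.extπ K f z = x) :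
    ∃ e he, (pt K x e he : Spec (CommRingCat.of K) ⟶ _) (IsLocalRing.closedPoint K) = z := by
  subst hx
  let p := pointOfClosedPoint (FinFr.extStr K f) z hz
  let e := (FinFr.extπ K f).residueFieldMap z ≫ (residueFieldIsoBase (FinFr.extStr K f) z hz).hom
  have hp : p ≫ FinFr.extπ K f = Spec.map e ≫ X.fromSpecResidueField _ := by
    rw [Spec.map_comp, Category.assoc, Scheme.Hom.SpecMap_residueFieldMap_fromSpecResidueField]
    exact Category.assoc _ _ _
  have he : Points.resMap f _ ≫ e = CommRingCat.ofHom (algebraMap k K) := by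
    refine Spec.map_injective ?_
    rw [Spec.map_comp, Points.specMap_resMap, ← Category.assoc, ← hp, Category.assoc,
      pullback.condition, ← Category.assoc, pointOfClosedPoint_comp, Category.id_comp]
  refine ⟨e, he, ?_⟩
  have : pt K _ e he = p := pullback.hom_ext
    (by rw [pt, pullback.lift_fst, hp]) (by rw [pt, pullback.lift_snd, pointOfClosedPoint_comp])
  rw [this]
  exact pointOfClosedPoint_apply _ _ _ _

include hFb hFapp hF1 hF2 in
theorem pt_comp (x : X) (e e' : X.residueField x ⟶ CommRingCat.of K) (he he')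
    (h : ∀ a, e' a = e a ^ Nat.card k) : pt K x e he ≫ F = pt (f := f) K x e' he' := by
  have : Fintype k := Fintype.ofFinite k
  let φ : CommRingCat.of K ⟶ CommRingCat.of K :=
    CommRingCat.ofHom (FiniteField.frobeniusAlgHom k K).toRingHom
  have hφ : ∀ a : K, φ a = a ^ Nat.card k := fun a => by rw [Nat.card_eq_fintype_card]; rfl
  refine pullback.hom_ext ?_ ?_
  · rw [Category.assoc, hF1, ← Category.assoc, pt, pullback.lift_fst,
      FixFrob.comp_eq_powMap FX hFb hle (Nat.card k) hFapp _ φ hφ, pt, pullback.lift_fst,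
      ← Spec.map_comp_assoc]
    congr 2
    ext a
    exact (hφ _).trans (h a).symm
  · rw [Category.assoc, hF2, pt, pullback.lift_snd, pt, pullback.lift_snd]

variable (W : Set ↥(FinFr.ext K f))

include hFb hFapp hF1 hF2 in
theorem pt_mem (hFW : F.base '' W ⊆ W) (x : X) (e : X.residueField x ⟶ CommRingCat.of K) (he)
    (hW : (pt K x e he : Spec (CommRingCat.of K) ⟶ _) (IsLocalRing.closedPoint K) ∈ W) (n : ℕ) :
    ∀ (e' : X.residueField x ⟶ CommRingCat.of K) (he'),
      (∀ a, e' a = e a ^ (Nat.card k ^ n)) →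
      (pt (f := f) K x e' he' : Spec (CommRingCat.of K) ⟶ _) (IsLocalRing.closedPoint K) ∈ W := by
  have : Fintype k := Fintype.ofFinite k
  induction n with
  | zero =>
    intro e' he' h
    have : e' = e := by ext a; simpa using h a
    subst this
    exact hW
  | succ n ih =>
    intro e' he' h
    let φ : CommRingCat.of K ⟶ CommRingCat.of K :=
      CommRingCat.ofHom (FiniteField.frobeniusAlgHom k K ^ n).toRingHom
    have hφ : ∀ a : K, φ a = a ^ (Nat.card k ^ n) := fun a => by
      rw [Nat.card_eq_fintype_card]; exact frobeniusAlgHom_pow_apply n a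
    have he'' : Points.resMap f x ≫ e ≫ φ = CommRingCat.ofHom (algebraMap k K) := by
      rw [← Category.assoc, he]
      ext a
      exact (FiniteField.frobeniusAlgHom k K ^ n).commutes a
    have hmem := ih (e ≫ φ) he'' fun a => hφ (e a)
    rw [← pt_comp FX hFb hle hFapp K hF1 hF2 x (e ≫ φ) e' he'' he' fun a => ?_]
    · exact hFW ⟨_, hmem, rfl⟩
    · show e' a = φ (e a) ^ _
      rw [h, hφ, ← pow_mul, pow_succ]

include hFb hFapp hF1 hF2 in
theorem descends [IsAlgClosed K] [Algebra.IsAlgebraic k K] [LocallyOfFiniteType f]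
    (hW : IsClosed W) :
    (∃ Y : Set X, IsClosed Y ∧ (FinFr.extπ K f).base ⁻¹' Y = W) ↔ F.base '' W ⊆ W := by
  constructor
  · rintro ⟨Y, -, rfl⟩ _ ⟨z, hz, rfl⟩
    show FinFr.extπ K f (F z) ∈ Y
    rw [← Scheme.Hom.comp_apply, hF1, Scheme.Hom.comp_apply]
    show FX.base (FinFr.extπ K f z) ∈ Y
    rw [hFb]
    exact hz
  · intro hFW
    have : IsIntegralHom (FinFr.specι k K) :=
      IsIntegralHom.SpecMap_iff.mpr (algebraMap_isIntegral_iff.mpr inferInstance)
    have : IsIntegralHom (FinFr.extπ K f) :=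
      MorphismProperty.pullback_fst _ _ inferInstance
    refine ⟨FinFr.extπ K f '' W, (FinFr.extπ K f).isClosedMap _ hW, ?_⟩
    refine Set.Subset.antisymm ?_ (Set.subset_preimage_image _ _)
    have : JacobsonSpace ↥(FinFr.ext K f) :=
      LocallyOfFiniteType.jacobsonSpace (FinFr.extStr K f)
    have hV : IsClosed ((FinFr.extπ K f).base ⁻¹' (FinFr.extπ K f '' W)) :=
      ((FinFr.extπ K f).isClosedMap _ hW).preimage (FinFr.extπ K f).continuous
    rw [← closure_inter_closedPoints hV, hW.closure_subset_iff]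
    rintro z ⟨hzV, hz : IsClosed ({z} : Set _)⟩
    set x := FinFr.extπ K f z with hx
    have hxcl : IsClosed ({x} : Set X) := by
      rw [← Set.image_singleton]; exact (FinFr.extπ K f).isClosedMap _ hz
    obtain ⟨w₀, hw₀W, hw₀⟩ := hzV
    obtain ⟨w, ⟨hwW, hwx⟩, hw : IsClosed ({w} : Set _)⟩ :=
      nonempty_inter_closedPoints (Z := W ∩ (FinFr.extπ K f).base ⁻¹' {x})
        ⟨w₀, hw₀W, hw₀⟩
        (hW.inter (hxcl.preimage (FinFr.extπ K f).continuous)).isLocallyClosed
    obtain ⟨ew, hew, hptw⟩ := exists_pt K hw x hwx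
    obtain ⟨ez, hez, hptz⟩ := exists_pt K hz x rfl
    have : Fintype k := Fintype.ofFinite k
    let := (Points.resMap f x).hom.toAlgebra
    have : Module.Finite k (X.residueField x) :=
      Module.finite_of_finrank_pos ((Points.isClosed_iff_deg_pos f x).mp hxcl)
    let aw : X.residueField x →ₐ[k] K :=
      { ew.hom with commutes' := fun a => ConcreteCategory.congr_hom hew a }
    let az : X.residueField x →ₐ[k] K :=
      { ez.hom with commutes' := fun a => ConcreteCategory.congr_hom hez a }
    obtain ⟨n, hn⟩ := exists_eq_pow aw az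
    rw [← hptz]
    refine pt_mem FX hFb hle hFapp K hF1 hF2 W hFW x ew hew (by rw [hptw]; exact hwW) n ez hez ?_
    intro a
    rw [Nat.card_eq_fintype_card]
    exact hn a

end Groth.Agent.Lib.Zeta.DescClosed
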