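import Groth.Prelude.Def_FinFr
import Mathlib.AlgebraicGeometry.Morphisms.FormallyUnramified
import Mathlib.AlgebraicGeometry.Morphisms.QuasiFinite
import Mathlib.AlgebraicGeometry.Morphisms.Immersion
import Mathlib.RingTheory.Unramified.Field

/-!
# The fixed points of the geometric Frobenius
-/

universe u

open CategoryTheory CategoryTheory.Limits AlgebraicGeometry

namespace Groth.Agent.Lib.Zeta.FixFrob

set_option backward.isDefEq.respectTransparency false
set_option linter.unusedSectionVars false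

variable {X : Scheme.{u}} (FX : X ⟶ X)

theorem exists_pow_away {R : Type u} [CommRing R] (r : R) (φ : R →+* R) (q : ℕ)
    (hφ : ∀ a : R, φ a = a ^ q) :
    ∃ F : Localization.Away r →+* Localization.Away r,
      (algebraMap R (Localization.Away r)).comp φ = F.comp (algebraMap R (Localization.Away r)) ∧
        ∀ a, F a = a ^ q := by
  have hl : ∀ a : R, (algebraMap R (Localization.Away r)).comp φ a =
      algebraMap R (Localization.Away r) a ^ q := fun a => by
    rw [RingHom.comp_apply, hφ, map_pow]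
  have hu : IsUnit ((algebraMap R (Localization.Away r)).comp φ r) := by
    rw [hl]; exact (IsLocalization.Away.algebraMap_isUnit r).pow q
  refine ⟨IsLocalization.Away.lift r hu, (IsLocalization.Away.lift_comp r hu).symm, fun z => ?_⟩
  obtain ⟨⟨a, s⟩, hz⟩ := IsLocalization.surj (Submonoid.powers r) z
  have hu' : IsUnit (algebraMap R (Localization.Away r) s ^ q) :=
    (IsLocalization.map_units _ s).pow q
  refine hu'.mul_left_injective ?_
  have e : ∀ b : R, IsLocalization.Away.lift r hu (algebraMap R (Localization.Away r) b) =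
      algebraMap R (Localization.Away r) b ^ q :=
    fun b => (IsLocalization.Away.lift_eq r hu b).trans (hl b)
  beta_reduce
  rw [← mul_pow, hz, ← e s, ← map_mul, hz, e]

/-- The Frobenius of `X` is natural: composed with a point with values in `R` it is the power map
of `R`. -/
theorem comp_eq_powMap (hFb : FX.base = 𝟙 _) (hle : ∀ U : X.Opens, U ≤ FX ⁻¹ᵁ U) (q : ℕ)
    (hFapp : ∀ (U : X.Opens) (s : Γ(X, U)), (FX.appLE U U (hle U)).hom s = s ^ q)
    {R : CommRingCat.{u}} (g : Spec R ⟶ X) (φ : R ⟶ R) (hφ : ∀ a : R, φ a = a ^ q) :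
    g ≫ FX = Spec.map φ ≫ g := by
  let ι := {r : R // ∃ U : X.Opens, IsAffineOpen U ∧ PrimeSpectrum.basicOpen r ≤ g ⁻¹ᵁ U}
  have hs : Ideal.span (Set.range (Subtype.val : ι → R)) = ⊤ := by
    rw [← PrimeSpectrum.iSup_basicOpen_eq_top_iff, eq_top_iff]
    intro x _
    obtain ⟨U, hU, hxU, -⟩ := exists_isAffineOpen_mem_and_subset
      (show g x ∈ (⊤ : X.Opens) from trivial)
    obtain ⟨_, ⟨r, rfl⟩, hxr, hr⟩ :=
      TopologicalSpace.Opens.isBasis_iff_nbhd.mp PrimeSpectrum.isBasis_basic_opens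
        (show x ∈ g ⁻¹ᵁ U from hxU)
    exact TopologicalSpace.Opens.mem_iSup.mpr ⟨⟨r, U, hU, hr⟩, hxr⟩
  refine (Scheme.affineOpenCoverOfSpanRangeEqTop _ hs).openCover.hom_ext _ _ ?_
  rintro ⟨r, U, hU, hr⟩
  show Spec.map (CommRingCat.ofHom (algebraMap R (Localization.Away r))) ≫ g ≫ FX =
    Spec.map (CommRingCat.ofHom (algebraMap R (Localization.Away r))) ≫ Spec.map φ ≫ g
  set l := CommRingCat.ofHom (algebraMap R (Localization.Away r))
  have hrange : Set.range (Spec.map l ≫ g) ⊆ Set.range hU.fromSpec := by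
    rw [hU.range_fromSpec]
    rintro _ ⟨z, rfl⟩
    have hz : Spec.map l z ∈ (PrimeSpectrum.basicOpen r : Set (PrimeSpectrum R)) := by
      rw [← PrimeSpectrum.localization_away_comap_range (Localization.Away r) r]
      exact ⟨z, rfl⟩
    exact hr hz
  let χ := Spec.preimage (IsOpenImmersion.lift hU.fromSpec (Spec.map l ≫ g) hrange)
  have hχ : Spec.map χ ≫ hU.fromSpec = Spec.map l ≫ g := by
    rw [Spec.map_preimage, IsOpenImmersion.lift_fac]
  have hlφ : φ ≫ l ≫ 𝟙 _ = φ ≫ l := by rw [Category.comp_id]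
  rw [← Category.assoc, ← hχ, Category.assoc, ← hU.SpecMap_appLE_fromSpec FX hU (hle U),
    ← Spec.map_comp_assoc, ← Category.assoc (Spec.map l), ← Spec.map_comp]
  obtain ⟨F, hF, hFq⟩ := exists_pow_away (R := R) r φ.hom q hφ
  let ψ : CommRingCat.of (Localization.Away (r : R)) ⟶ CommRingCat.of (Localization.Away (r : R)) :=
    CommRingCat.ofHom F
  have hψ : φ ≫ l = l ≫ ψ ∧ ∀ a, ψ a = a ^ q := ⟨CommRingCat.hom_ext hF, hFq⟩
  rw [hψ.1]
  refine Eq.trans ?_ (show Spec.map ψ ≫ Spec.map χ ≫ hU.fromSpec = Spec.map (l ≫ ψ) ≫ g from by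
    rw [hχ, Spec.map_comp, Category.assoc])
  rw [← Spec.map_comp_assoc]
  congr 2
  ext s
  show χ.hom ((FX.appLE U U (hle U)).hom s) = ψ.hom (χ.hom s)
  rw [hFapp, map_pow]
  exact (hψ.2 _).symm

variable {k : Type u} [Field k] [Finite k] {f : X ⟶ Spec (CommRingCat.of k)} (K : Type u) [Field K]
  [Algebra k K] (hFb : FX.base = 𝟙 _) (hle : ∀ U : X.Opens, U ≤ FX ⁻¹ᵁ U)
  (hFapp : ∀ (U : X.Opens) (s : Γ(X, U)), (FX.appLE U U (hle U)).hom s = s ^ Nat.card k)
  {F : FinFr.ext K f ⟶ FinFr.ext K f}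
  (hF1 : F ≫ FinFr.extπ K f = FinFr.extπ K f ≫ FX)
  (hF2 : F ≫ FinFr.extStr K f = FinFr.extStr K f)

/-- The inclusion of the fixed points. -/
noncomputable abbrev incl : FinFr.fixScheme (FinFr.extStr K f) F hF2 ⟶ FinFr.ext K f :=
  pullback.fst _ _

theorem incl_comp : incl K hF2 ≫ F = incl K hF2 := by
  have hc := pullback.condition
    (f := (pullback.lift (𝟙 _) F (by rw [hF2, Category.id_comp]) :
      FinFr.ext K f ⟶ pullback (FinFr.extStr K f) (FinFr.extStr K f)))
    (g := pullback.lift (𝟙 _) (𝟙 _) rfl)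
  have h1 := congrArg (· ≫ pullback.fst _ _) hc
  have h2 := congrArg (· ≫ pullback.snd _ _) hc
  simp only [Category.assoc, pullback.lift_fst, pullback.lift_snd, Category.comp_id] at h1 h2
  exact h2.trans h1.symm

instance : IsImmersion (incl K hF2) := by
  have : IsImmersion (pullback.lift (𝟙 _) (𝟙 _) rfl :
      FinFr.ext K f ⟶ pullback (FinFr.extStr K f) (FinFr.extStr K f)) :=
    inferInstanceAs (IsImmersion (pullback.diagonal (FinFr.extStr K f)))
  exact MorphismProperty.pullback_fst _ _ this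

include hFb hFapp hF1 in
theorem formallyUnramified : FormallyUnramified (incl K hF2 ≫ FinFr.extStr K f) := by
  refine FormallyUnramified.of_hom_ext _ fun R S φ hφ hI g₁ g₂ h12 hstr => ?_
  have : Fintype k := Fintype.ofFinite k
  have hFXi : incl K hF2 ≫ FinFr.extπ K f ≫ FX = incl K hF2 ≫ FinFr.extπ K f := by
    rw [← hF1, ← Category.assoc, incl_comp]
  let : Algebra k R := (Spec.preimage (g₁ ≫ incl K hF2 ≫ FinFr.extπ K f ≫ f)).hom.toAlgebra
  let P : R ⟶ R := CommRingCat.ofHom (FiniteField.frobeniusAlgHom k R).toRingHom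
  have hP : ∀ a : R, P a = a ^ Nat.card k := fun a => by
    rw [Nat.card_eq_fintype_card]; rfl
  have hker : RingHom.ker φ.hom ≤ RingHom.ker P.hom := fun x hx => by
    rw [RingHom.mem_ker, hP]
    have h2 : x ^ 2 = 0 := by
      have : x ^ 2 ∈ RingHom.ker φ.hom ^ 2 := Ideal.pow_mem_pow hx 2
      rwa [hI] at this
    exact pow_eq_zero_of_le (Finite.one_lt_card : 1 < Nat.card k) h2
  let ψ : S ⟶ R := CommRingCat.ofHom (φ.hom.liftOfSurjective hφ ⟨P.hom, hker⟩)
  have hψ : φ ≫ ψ = P := by
    ext a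
    exact RingHom.liftOfSurjective_comp_apply φ.hom hφ ⟨P.hom, hker⟩ a
  have key : ∀ g : Spec R ⟶ _, g ≫ incl K hF2 ≫ FinFr.extπ K f =
      Spec.map ψ ≫ (Spec.map φ ≫ g) ≫ incl K hF2 ≫ FinFr.extπ K f := fun g => by
    conv_lhs => rw [← hFXi, ← Category.assoc, ← Category.assoc,
      comp_eq_powMap FX hFb hle (Nat.card k) hFapp _ P hP, ← hψ, Spec.map_comp]
    simp only [Category.assoc]
  refine (cancel_mono (incl K hF2)).mp (pullback.hom_ext ?_ ?_)
  · rw [Category.assoc, Category.assoc, key g₁, key g₂, h12]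
  · simpa only [Category.assoc] using hstr

include hFb hFapp hF1 in
theorem local_props [LocallyOfFiniteType f]
    (U : (FinFr.fixScheme (FinFr.extStr K f) F hF2).affineOpens) :
    ((incl K hF2 ≫ FinFr.extStr K f).appLE ⊤ U.1 le_top).hom.QuasiFinite ∧
      _root_.IsReduced Γ(FinFr.fixScheme (FinFr.extStr K f) F hF2, U.1) := by
  have := formallyUnramified FX K hFb hle hFapp hF1 hF2
  have h1 := (incl K hF2 ≫ FinFr.extStr K f).formallyUnramified_appLE (isAffineOpen_top _) U.2 le_top
  have h2 := HasRingHomProperty.appLE @LocallyOfFiniteType (incl K hF2 ≫ FinFr.extStr K f)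
    inferInstance ⟨⊤, isAffineOpen_top _⟩ U le_top
  let ψ := (incl K hF2 ≫ FinFr.extStr K f).appLE ⊤ U.1 le_top
  let ε := (Scheme.ΓSpecIso (CommRingCat.of K)).inv
  have hb : Function.Bijective ε.hom := ConcreteCategory.bijective_of_isIso _
  let φ := (ε ≫ ψ).hom
  let : Algebra K Γ(FinFr.fixScheme (FinFr.extStr K f) F hF2, U.1) := φ.toAlgebra
  have : Algebra.FiniteType K Γ(FinFr.fixScheme (FinFr.extStr K f) F hF2, U.1) :=
    (RingHom.finiteType_algebraMap).mp (h2.comp (RingHom.FiniteType.of_surjective _ hb.2))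
  have : Algebra.FormallyUnramified K Γ(FinFr.fixScheme (FinFr.extStr K f) F hF2, U.1) :=
    (RingHom.formallyUnramified_algebraMap).mp
      (RingHom.FormallyUnramified.stableUnderComposition _ _
        (RingHom.FormallyUnramified.of_surjective hb.2) h1)
  have := Algebra.FormallyUnramified.finite_of_free K
    Γ(FinFr.fixScheme (FinFr.extStr K f) F hF2, U.1)
  refine ⟨?_, Algebra.FormallyUnramified.isReduced_of_field K _⟩
  have hfin : ψ.hom.Finite :=
    RingHom.Finite.of_comp_finite (f := ε.hom) (RingHom.finite_algebraMap.mpr ‹_›)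
  algebraize [ψ.hom]
  exact RingHom.quasiFinite_algebraMap.mpr inferInstance

include hFb hFapp hF1 in
theorem isReduced [LocallyOfFiniteType f] :
    IsReduced (FinFr.fixScheme (FinFr.extStr K f) F hF2) := by
  have := formallyUnramified FX K hFb hle hFapp hF1 hF2
  have : ∀ x : ↥(FinFr.fixScheme (FinFr.extStr K f) F hF2),
      _root_.IsReduced ((FinFr.fixScheme (FinFr.extStr K f) F hF2).presheaf.stalk x) := fun x => by
    obtain ⟨U, hU, hxU, -⟩ := exists_isAffineOpen_mem_and_subset
      (show x ∈ (⊤ : (FinFr.fixScheme (FinFr.extStr K f) F hF2).Opens) from trivial)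
    have := (local_props FX K hFb hle hFapp hF1 hF2 ⟨U, hU⟩).2
    have := hU.isLocalization_stalk ⟨x, hxU⟩
    let := TopCat.Presheaf.algebra_section_stalk (FinFr.fixScheme (FinFr.extStr K f) F hF2).presheaf ⟨x, hxU⟩
    exact isReduced_localizationPreserves (hU.primeIdealOf ⟨x, hxU⟩).asIdeal.primeCompl _ ‹_›
  exact isReduced_of_isReduced_stalk _

include hFb hFapp hF1 in
theorem finite [LocallyOfFiniteType f] [QuasiCompact f] :
    Finite ↥(FinFr.fixScheme (FinFr.extStr K f) F hF2) := by
  have := formallyUnramified FX K hFb hle hFapp hF1 hF2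
  have : CompactSpace ↥(FinFr.ext K f) :=
    QuasiCompact.compactSpace_of_compactSpace (FinFr.extStr K f)
  have : IsLocallyNoetherian (FinFr.ext K f) :=
    LocallyOfFiniteType.isLocallyNoetherian (FinFr.extStr K f)
  have : IsNoetherian (FinFr.ext K f) := {}
  have : TopologicalSpace.NoetherianSpace ↥(FinFr.fixScheme (FinFr.extStr K f) F hF2) :=
    (incl K hF2).isEmbedding.isInducing.noetherianSpace
  have : QuasiCompact (incl K hF2 ≫ FinFr.extStr K f) :=
    (HasAffineProperty.iff_of_isAffine (P := @QuasiCompact)).mpr inferInstance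
  have : LocallyQuasiFinite (incl K hF2 ≫ FinFr.extStr K f) := by
    have := HasRingHomProperty.HasAffineProperty @LocallyQuasiFinite
    rw [HasAffineProperty.iff_of_isAffine (P := @LocallyQuasiFinite)]
    exact fun U => (local_props FX K hFb hle hFapp hF1 hF2 U).1
  have h := (incl K hF2 ≫ FinFr.extStr K f).finite_preimage_singleton default
  rw [show (incl K hF2 ≫ FinFr.extStr K f) ⁻¹' {default} = Set.univ from
    Set.eq_univ_of_forall fun x => Subsingleton.elim _ _] at h
  exact Set.finite_univ_iff.mp h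

end Groth.Agent.Lib.Zeta.FixFrob
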