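import Groth.Prelude.Def_FinFr
import Mathlib.AlgebraicGeometry.PullbackCarrier
import Mathlib.FieldTheory.IsAlgClosed.AlgebraicClosure
import Mathlib.FieldTheory.Normal.Basic

/-!
# The fibres of `X ⊗ K ⟶ X` for a normal extension `K` of `k` are Galois orbits
-/

universe u

open CategoryTheory CategoryTheory.Limits AlgebraicGeometry

namespace Groth.Agent.Lib.Zeta.GaloisFibre

set_option backward.isDefEq.respectTransparency false

variable {k : Type u} [Field k] {X : Scheme.{u}} {f : X ⟶ Spec (CommRingCat.of k)}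
  {K : Type u} [Field K] [Algebra k K]

theorem exists_aut [Normal k K]
    (τ : (K ≃ₐ[k] K) → (FinFr.ext K f ⟶ FinFr.ext K f))
    (hτ1 : ∀ σ, τ σ ≫ FinFr.extπ K f = FinFr.extπ K f)
    (hτ2 : ∀ σ, τ σ ≫ FinFr.extStr K f =
      FinFr.extStr K f ≫ Spec.map (CommRingCat.ofHom (σ : K →+* K)))
    {x y : ↥(FinFr.ext K f)} (h : FinFr.extπ K f x = FinFr.extπ K f y) :
    ∃ σ, τ σ x = y := by
  obtain ⟨v, hvx, hvy⟩ := Scheme.Pullback.exists_preimage_pullback x y h
  let P := pullback (FinFr.extπ K f) (FinFr.extπ K f)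
  let g₁ := P.fromSpecResidueField v ≫ pullback.fst _ _
  let g₂ := P.fromSpecResidueField v ≫ pullback.snd _ _
  let Ω : Type u := P.residueField v
  let ψ := Spec.preimage (g₁ ≫ FinFr.extStr K f ≫ FinFr.specι k K)
  let : Algebra k Ω := ψ.hom.toAlgebra
  have hψ : Spec.map ψ = g₁ ≫ FinFr.extStr K f ≫ FinFr.specι k K := Spec.map_preimage _
  have hg : g₁ ≫ FinFr.extπ K f = g₂ ≫ FinFr.extπ K f := by
    simp only [g₁, g₂, Category.assoc, pullback.condition]
  let e₁ := Spec.preimage (g₁ ≫ FinFr.extStr K f)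
  let e₂ := Spec.preimage (g₂ ≫ FinFr.extStr K f)
  have h1 : CommRingCat.ofHom (algebraMap k K) ≫ e₁ = ψ := by
    refine Spec.map_injective ?_
    rw [Spec.map_comp, Spec.map_preimage, hψ, Category.assoc]
  have h2 : CommRingCat.ofHom (algebraMap k K) ≫ e₂ = ψ := by
    refine Spec.map_injective ?_
    rw [Spec.map_comp, Spec.map_preimage, hψ, Category.assoc]
    show g₂ ≫ FinFr.extStr K f ≫ FinFr.specι k K = _
    rw [← pullback.condition, ← Category.assoc, ← hg, Category.assoc]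
  let a₁ : K →ₐ[k] Ω := { e₁.hom with commutes' := fun c => congr($h1 c) }
  let a₂ : K →ₐ[k] Ω := { e₂.hom with commutes' := fun c => congr($h2 c) }
  let : Algebra K Ω := a₁.toRingHom.toAlgebra
  have : IsScalarTower k K Ω := .of_algebraMap_eq fun c => (a₁.commutes c).symm
  let σ : K ≃ₐ[k] K := AlgEquiv.ofBijective (a₂.restrictNormal K)
    (AlgHom.normal_bijective k K K (a₂.restrictNormal K))
  have hσ : ∀ c, e₁ (σ c) = e₂ c := fun c => a₂.restrictNormal_commutes K c
  refine ⟨σ, ?_⟩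
  have hkey : g₁ ≫ τ σ = g₂ := by
    refine pullback.hom_ext ?_ ?_
    · rw [Category.assoc, hτ1, hg]
    · rw [Category.assoc, hτ2, ← Category.assoc, ← Spec.map_preimage (g₁ ≫ FinFr.extStr K f),
        ← Spec.map_comp]
      refine Eq.trans ?_ (Spec.map_preimage (g₂ ≫ FinFr.extStr K f))
      congr 1
      ext c
      exact hσ c
  have h3 := congr($hkey default)
  simp only [g₁, g₂, Scheme.Hom.comp_apply, Scheme.fromSpecResidueField_apply] at h3
  rw [← hvx, ← hvy]
  exact h3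

theorem fiber_eq_orbit [Normal k K]
    (τ : (K ≃ₐ[k] K) → (FinFr.ext K f ⟶ FinFr.ext K f))
    (hτ1 : ∀ σ, τ σ ≫ FinFr.extπ K f = FinFr.extπ K f)
    (hτ2 : ∀ σ, τ σ ≫ FinFr.extStr K f =
      FinFr.extStr K f ≫ Spec.map (CommRingCat.ofHom (σ : K →+* K)))
    (x y : ↥(FinFr.ext K f)) :
    FinFr.extπ K f x = FinFr.extπ K f y ↔ ∃ σ, τ σ x = y := by
  refine ⟨exists_aut τ hτ1 hτ2, ?_⟩
  rintro ⟨σ, rfl⟩
  rw [← Scheme.Hom.comp_apply, hτ1]

end Groth.Agent.Lib.Zeta.GaloisFibre
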