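import Groth.Agent.Lib.Dim.Integral
import Mathlib.RingTheory.NoetherNormalization
import Mathlib.RingTheory.Localization.Integral
import Mathlib.RingTheory.MvPolynomial.Localization
import Mathlib.RingTheory.KrullDimension.Polynomial
import Mathlib.RingTheory.Localization.Away.Basic
import Mathlib.RingTheory.FiniteType
import Mathlib.Algebra.Field.ZMod
import Mathlib.FieldTheory.Finite.Basic
import Mathlib.RingTheory.KrullDimension.Field
import Mathlib.RingTheory.KrullDimension.Zero

/-!
Elementary bounds on the number of points of an affine scheme of finite type over `ℤ`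
with values in finite fields.
-/

open MvPolynomial

namespace Groth.Agent.Lib.Zeta.PointBound

universe u v w

set_option linter.style.haveILetI false

/-- Extensions of a map to a field along an integral extension generated by finitely many elements:
at most `C` of them, `C` not depending on the map or on the field. -/
theorem exists_card_fibre_le {R : Type u} {A : Type v} [CommRing R] [CommRing A] [Algebra R A]
    [Algebra.FiniteType R A] [Algebra.IsIntegral R A] :
    ∃ C : ℕ, ∀ (F : Type w) [Field F], Finite (R →+* F) →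
      Finite (A →+* F) ∧ Nat.card (A →+* F) ≤ C * Nat.card (R →+* F) := by
  classical
  obtain ⟨s, hs⟩ := Algebra.FiniteType.out (R := R) (A := A)
  refine ⟨∏ a ∈ s, (minpoly R a).natDegree, fun F _ hfin => ?_⟩
  let T : (R →+* F) → Type (max v w) := fun φ =>
    (a : s) → ↥((minpoly R (a : A)).map φ).roots.toFinset
  let e : (A →+* F) → Σ φ, T φ := fun ψ => ⟨ψ.comp (algebraMap R A), fun a => ⟨ψ a, by
    rw [Multiset.mem_toFinset, Polynomial.mem_roots ((minpoly.monic (Algebra.IsIntegral.isIntegral (a : A))).map _).ne_zero,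
      Polynomial.IsRoot, Polynomial.eval_map, ← Polynomial.hom_eval₂, ← Polynomial.aeval_def,
      minpoly.aeval, map_zero]⟩⟩
  have he : Function.Injective e := by
    intro ψ₁ ψ₂ h
    have h1 : ψ₁.comp (algebraMap R A) = ψ₂.comp (algebraMap R A) := congrArg Sigma.fst h
    have h3 : ∀ a : s, ψ₁ a = ψ₂ a := by
      intro a
      exact congrArg (fun p : Σ φ, T φ => ((p.2 a : F))) h
    refine RingHom.ext fun x => ?_
    have hx : x ∈ Algebra.adjoin R (s : Set A) := hs ▸ Algebra.mem_top
    induction hx using Algebra.adjoin_induction with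
    | mem y hy => exact h3 ⟨y, hy⟩
    | algebraMap r => exact RingHom.congr_fun h1 r
    | add y z _ _ hy hz => rw [map_add, map_add, hy, hz]
    | mul y z _ _ hy hz => rw [map_mul, map_mul, hy, hz]
  have : ∀ φ, Finite (T φ) := fun φ => inferInstance
  refine ⟨Finite.of_injective e he, (Nat.card_le_card_of_injective e he).trans ?_⟩
  haveI := Fintype.ofFinite (R →+* F)
  rw [Nat.card_sigma, mul_comm, Nat.card_eq_fintype_card, ← Finset.card_univ, ← smul_eq_mul]
  refine Finset.sum_le_card_nsmul _ _ _ fun φ _ => ?_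
  rw [Nat.card_pi, ← Finset.prod_coe_sort s fun a => (minpoly R a).natDegree]
  refine Finset.prod_le_prod' fun a _ => ?_
  rw [Nat.card_eq_fintype_card, Fintype.card_coe]
  exact (Multiset.toFinset_card_le _).trans ((Polynomial.card_roots' _).trans
    (Polynomial.natDegree_map_le))

/-- Homomorphisms from a polynomial ring. -/
theorem card_hom_mvPolynomial_le {R : Type u} [CommRing R] (d : ℕ) (F : Type w) [Field F] [Finite F]
    [Subsingleton (R →+* F)] :
    Finite (MvPolynomial (Fin d) R →+* F) ∧
      Nat.card (MvPolynomial (Fin d) R →+* F) ≤ Nat.card F ^ d := by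
  let e : (MvPolynomial (Fin d) R →+* F) → (Fin d → F) := fun φ i => φ (X i)
  have he : Function.Injective e := fun φ₁ φ₂ h =>
    MvPolynomial.ringHom_ext
      (fun r => RingHom.congr_fun (Subsingleton.elim (φ₁.comp C) (φ₂.comp C)) r)
      fun i => congrFun h i
  refine ⟨Finite.of_injective e he, (Nat.card_le_card_of_injective e he).trans ?_⟩
  rw [Nat.card_fun, Nat.card_fin]

/-- Homomorphisms from a finitely generated ring to a finite field form a finite set. -/
theorem finite_hom (A : Type v) [CommRing A] [Algebra.FiniteType ℤ A] (F : Type w) [Field F]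
    [Finite F] : Finite (A →+* F) := by
  obtain ⟨s, hs⟩ := Algebra.FiniteType.out (R := ℤ) (A := A)
  refine Finite.of_injective (fun φ (a : s) => φ a) fun φ₁ φ₂ h => RingHom.ext fun x => ?_
  have hx : x ∈ Algebra.adjoin ℤ (s : Set A) := hs ▸ Algebra.mem_top
  induction hx using Algebra.adjoin_induction with
  | mem y hy => exact congrFun h ⟨y, hy⟩
  | algebraMap r => simp
  | add y z _ _ hy hz => rw [map_add, map_add, hy, hz]
  | mul y z _ _ hy hz => rw [map_mul, map_mul, hy, hz]

/-- The bound over a prime field. -/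
theorem exists_bound_zmod (p : ℕ) [Fact p.Prime] (A : Type u) [CommRing A] [Algebra (ZMod p) A]
    [Algebra.FiniteType (ZMod p) A] (r : ℕ) (hr : ringKrullDim A ≤ r) :
    ∃ C : ℕ, ∀ (F : Type w) [Field F], Finite F → Nat.card (A →+* F) ≤ C * Nat.card F ^ r := by
  rcases subsingleton_or_nontrivial A with h | h
  · refine ⟨0, fun F _ _ => ?_⟩
    have : IsEmpty (A →+* F) := ⟨fun φ => one_ne_zero (α := F) <| by
      rw [← map_one φ, Subsingleton.elim (1 : A) 0, map_zero]⟩
    simp
  obtain ⟨d, g, hinj, hint⟩ := exists_integral_inj_algHom_of_fg (ZMod p) A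
  letI := g.toRingHom.toAlgebra
  haveI : Algebra.IsIntegral (MvPolynomial (Fin d) (ZMod p)) A := ⟨hint⟩
  haveI : IsScalarTower (ZMod p) (MvPolynomial (Fin d) (ZMod p)) A :=
    IsScalarTower.of_algebraMap_eq fun x => (g.commutes x).symm
  haveI := Algebra.FiniteType.of_restrictScalars_finiteType (ZMod p) (MvPolynomial (Fin d) (ZMod p)) A
  haveI : FaithfulSMul (MvPolynomial (Fin d) (ZMod p)) A :=
    (faithfulSMul_iff_algebraMap_injective _ _).2 hinj
  have hd : d ≤ r := by
    have h1 := Groth.Agent.Lib.Dim.Integral.ringKrullDim_eq_of_isIntegral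
      (R := MvPolynomial (Fin d) (ZMod p)) (A := A)
    rw [MvPolynomial.ringKrullDim_of_isNoetherianRing, ringKrullDim_eq_zero_of_field, zero_add,
      Nat.card_fin] at h1
    have : ((d : ℕ∞) : WithBot ℕ∞) ≤ r := (le_of_eq (by simpa using h1.symm)).trans hr
    exact_mod_cast this
  obtain ⟨C, hC⟩ := exists_card_fibre_le (R := MvPolynomial (Fin d) (ZMod p)) (A := A)
  refine ⟨C, fun F _ hF => ?_⟩
  obtain ⟨hfin, hle⟩ := card_hom_mvPolynomial_le (R := ZMod p) d F
  exact ((hC F hfin).2).trans (Nat.mul_le_mul_left _ (hle.trans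
    (Nat.pow_le_pow_right Nat.card_pos hd)))

/-- Clearing denominators in a Noether normalisation of the generic fibre: outside the primes
dividing a fixed integer there are at most `O(q^(r-1))` points. -/
theorem exists_bound_generic (A : Type u) [CommRing A] [Algebra.FiniteType ℤ A] (r : ℕ)
    (hr : ringKrullDim A ≤ r) :
    ∃ M C : ℕ, M ≠ 0 ∧ ∀ (F : Type w) [Field F], Finite F → (M : F) ≠ 0 →
      Nat.card F * Nat.card (A →+* F) ≤ C * Nat.card F ^ r := by
  classical
  let S : Submonoid A := Algebra.algebraMapSubmonoid A (nonZeroDivisors ℤ)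
  let L := Localization S
  let ι : A →+* L := algebraMap A L
  haveI : IsLocalization S L := Localization.isLocalization
  let qmap : ℚ →+* L := IsLocalization.map (M := nonZeroDivisors ℤ) (T := S) L (algebraMap ℤ A)
    (Submonoid.le_comap_map _)
  have hsurj : ∀ z : L, ∃ a : A, ∃ n : ℤ, n ≠ 0 ∧ z * (n : L) = ι a := by
    intro z
    obtain ⟨⟨a, ⟨_, n, hn, rfl⟩⟩, h⟩ := IsLocalization.surj S z
    exact ⟨a, n, nonZeroDivisors.ne_zero hn, by simpa [ι] using h⟩
  have hker : ∀ a : A, ι a = 0 → ∃ n : ℤ, n ≠ 0 ∧ (n : A) * a = 0 := by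
    intro a ha
    obtain ⟨⟨_, n, hn, rfl⟩, h⟩ := (IsLocalization.map_eq_zero_iff S L a).1 ha
    exact ⟨n, nonZeroDivisors.ne_zero hn, by simpa using h⟩
  have hnat : ∀ (F : Type w) [Field F] (n : ℤ), ((n.natAbs : ℕ) : F) ≠ 0 → (n : F) ≠ 0 := by
    intro F _ n h h0
    apply h
    rcases n.natAbs_eq with e | e <;> rw [e] at h0 <;> simpa using h0
  rcases subsingleton_or_nontrivial L with hL | hL
  · obtain ⟨n, hn, h⟩ := hker 1 (Subsingleton.elim _ _)
    refine ⟨n.natAbs, 0, Int.natAbs_ne_zero.2 hn, fun F _ _ hF => ?_⟩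
    have : IsEmpty (A →+* F) := ⟨fun φ => hnat F n hF <| by
      have := congrArg φ h
      simpa using this⟩
    simp
  letI : Algebra ℚ L := qmap.toAlgebra
  obtain ⟨s, hs⟩ := Algebra.FiniteType.out (R := ℤ) (A := A)
  have hLft : Algebra.FiniteType ℚ L := by
    refine ⟨⟨s.image ι, ?_⟩⟩
    rw [eq_top_iff]
    rintro z -
    obtain ⟨a, n, hn, h⟩ := hsurj z
    have ha : ι a ∈ Algebra.adjoin ℚ ((s.image ι : Finset L) : Set L) := by
      have hx : a ∈ Algebra.adjoin ℤ (s : Set A) := hs ▸ Algebra.mem_top
      clear h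
      induction hx using Algebra.adjoin_induction with
      | mem y hy => exact Algebra.subset_adjoin (by simpa using ⟨y, hy, rfl⟩)
      | algebraMap m => rw [eq_intCast, map_intCast]; exact intCast_mem _ m
      | add y w _ _ hy hw => rw [map_add]; exact add_mem hy hw
      | mul y w _ _ hy hw => rw [map_mul]; exact mul_mem hy hw
    have hz : z = ι a * algebraMap ℚ L ((n : ℚ)⁻¹) := by
      rw [← h, mul_assoc, ← map_intCast (algebraMap ℚ L), ← map_mul,
        mul_inv_cancel₀ (Int.cast_ne_zero.2 hn), map_one, mul_one]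
    rw [hz]
    exact mul_mem ha (Subalgebra.algebraMap_mem _ _)
  obtain ⟨d, g, ginj, gint⟩ := exists_integral_inj_algHom_of_fg ℚ L
  choose y ny hny hy using fun i => hsurj (g (X i))
  -- rescaled variables
  let g' : MvPolynomial (Fin d) ℚ →ₐ[ℚ] L := g.comp (aeval fun i => C (ny i : ℚ) * X i)
  let φA : MvPolynomial (Fin d) ℤ →+* A := eval₂Hom (Int.castRingHom A) y
  let σ : MvPolynomial (Fin d) ℚ ≃ₐ[ℚ] MvPolynomial (Fin d) ℚ :=
    AlgEquiv.ofAlgHom (aeval fun i => C (ny i : ℚ) * X i) (aeval fun i => C (ny i : ℚ)⁻¹ * X i)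
      (MvPolynomial.algHom_ext fun i => by
        simp only [AlgHom.comp_apply, AlgHom.id_apply, aeval_X, map_mul, aeval_C]
        rw [MvPolynomial.algebraMap_eq, ← mul_assoc, ← MvPolynomial.C_mul,
          inv_mul_cancel₀ (Int.cast_ne_zero.2 (hny i)), MvPolynomial.C_1, one_mul])
      (MvPolynomial.algHom_ext fun i => by
        simp only [AlgHom.comp_apply, AlgHom.id_apply, aeval_X, map_mul, aeval_C]
        rw [MvPolynomial.algebraMap_eq, ← mul_assoc, ← MvPolynomial.C_mul,
          mul_inv_cancel₀ (Int.cast_ne_zero.2 (hny i)), MvPolynomial.C_1, one_mul])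
  have g'inj : Function.Injective g' := ginj.comp σ.injective
  have g'int : g'.toRingHom.IsIntegral :=
    RingHom.IsIntegral.trans σ.toRingEquiv.toRingHom g.toRingHom
      (RingHom.IsIntegral.of_finite (RingHom.Finite.of_surjective _ σ.surjective)) gint
  have hcomp : g'.toRingHom.comp (MvPolynomial.map (Int.castRingHom ℚ)) = ι.comp φA := by
    refine MvPolynomial.ringHom_ext (fun n => ?_) fun i => ?_
    · simp [g', φA]
    · have h1 := hy i
      simp [g', φA]
      rw [← h1, mul_comm]
  -- integrality of the generators after multiplication by an integer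
  have hgen : ∀ a : A, ∃ n : ℤ, n ≠ 0 ∧ φA.IsIntegralElem ((n : A) * ((n : A) * a)) := by
    intro a
    letI := g'.toRingHom.toAlgebra
    letI : Algebra (MvPolynomial (Fin d) ℤ) L := (ι.comp φA).toAlgebra
    letI : Algebra (MvPolynomial (Fin d) ℤ) (MvPolynomial (Fin d) ℚ) :=
      MvPolynomial.algebraMvPolynomial
    haveI : IsScalarTower (MvPolynomial (Fin d) ℤ) (MvPolynomial (Fin d) ℚ) L :=
      IsScalarTower.of_algebraMap_eq fun x => (RingHom.congr_fun hcomp x).symm
    haveI := MvPolynomial.isLocalization (σ := Fin d) (nonZeroDivisors ℤ) ℚ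
    obtain ⟨⟨_, n, hn, rfl⟩, hint⟩ := IsIntegral.exists_multiple_integral_of_isLocalization
      (Submonoid.map (C (σ := Fin d) (R := ℤ)) (nonZeroDivisors ℤ))
      (Rₘ := MvPolynomial (Fin d) ℚ) (ι a) (g'int (ι a))
    obtain ⟨P, hPm, hP⟩ := hint
    have e : (⟨C n, n, hn, rfl⟩ : Submonoid.map (C (σ := Fin d) (R := ℤ)) (nonZeroDivisors ℤ)) •
        ι a = ι ((n : A) * a) := by
      rw [Submonoid.smul_def, Algebra.smul_def, map_mul]
      congr 1
      exact congrArg ι (eval₂Hom_C (Int.castRingHom A) y n)
    rw [e] at hP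
    have h0 : ι (P.eval₂ φA ((n : A) * a)) = 0 := by
      rw [Polynomial.hom_eval₂]; exact hP
    obtain ⟨m, hm, hm0⟩ := hker _ h0
    refine ⟨n * m, mul_ne_zero (nonZeroDivisors.ne_zero hn) hm, ?_⟩
    -- scale the roots of `P` by `C (n * m * m)`
    have hdeg : 0 < P.natDegree ∨ P = 1 := (Nat.eq_zero_or_pos _).symm.imp_right
      fun h => hPm.natDegree_eq_zero.1 h
    rcases hdeg with hdeg | rfl
    · refine ⟨P.scaleRoots (C (n * m * m)), (Polynomial.monic_scaleRoots_iff _).2 hPm, ?_⟩
      have h := Polynomial.scaleRoots_eval₂_mul φA ((n : A) * a) (p := P) (C (n * m * m))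
      have e2 : φA (C (n * m * m)) * ((n : A) * a) =
          ((n * m : ℤ) : A) * (((n * m : ℤ) : A) * a) := by
        rw [show φA (C (n * m * m)) = ((n * m * m : ℤ) : A) from eval₂Hom_C _ _ _]
        push_cast; ring
      rw [e2] at h
      rw [h]
      have hc : φA (C (n * m * m)) = (m : A) * ((n : A) * m) := by
        rw [show φA (C (n * m * m)) = ((n * m * m : ℤ) : A) from eval₂Hom_C _ _ _]
        push_cast; ring
      rw [hc, mul_pow, ← Nat.succ_pred_eq_of_pos hdeg, pow_succ, mul_assoc, mul_assoc]
      have : (m : A) * (((n : A) * m) ^ (P.natDegree.pred + 1) * P.eval₂ φA ((n : A) * a)) = 0 := by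
        rw [mul_left_comm, hm0, mul_zero]
      rw [this, mul_zero]
    · refine ⟨1, Polynomial.monic_one, ?_⟩
      rw [Polynomial.eval₂_one] at hm0 ⊢
      rw [mul_one] at hm0
      have h1 : ι 1 = 0 := by
        have := congrArg ι hm0
        rw [map_intCast, map_zero] at this
        exact absurd ((map_intCast (algebraMap ℚ L) m).trans this)
          ((map_ne_zero (algebraMap ℚ L)).2 (Int.cast_ne_zero.2 hm))
      exact absurd (h1.symm.trans (map_one ι)) zero_ne_one
  choose N hN0 hNint using hgen
  set M : ℤ := ∏ a ∈ s, N a with hM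
  have hM0 : M ≠ 0 := Finset.prod_ne_zero_iff.2 fun a _ => hN0 a
  let Z' := Localization.Away M
  let A' := Localization.Away (M : A)
  let R' := MvPolynomial (Fin d) Z'
  have huA : IsUnit (algebraMap A A' (M : A)) := IsLocalization.Away.algebraMap_isUnit _
  let ζ : Z' →+* A' := IsLocalization.Away.lift M (g := Int.castRingHom A')
    (by simpa using huA)
  let ψ : R' →+* A' := eval₂Hom ζ fun i => algebraMap A A' (y i)
  -- injectivity
  have huL : IsUnit (ι (M : A)) := by
    have : IsUnit (algebraMap ℚ L (M : ℚ)) :=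
      (isUnit_iff_ne_zero.2 (Int.cast_ne_zero.2 hM0)).map _
    simpa [ι] using this
  let toL : A' →+* L := IsLocalization.Away.lift (M : A) huL
  let z0 : Z' →+* ℚ := IsLocalization.Away.lift M (g := Int.castRingHom ℚ)
    (isUnit_iff_ne_zero.2 (by simpa using hM0))
  have z0inj : Function.Injective z0 := by
    rw [injective_iff_map_eq_zero]
    intro z hz
    obtain ⟨⟨a, t⟩, h⟩ := IsLocalization.surj (Submonoid.powers M) z
    have h2 := congrArg z0 h
    rw [map_mul, hz, zero_mul, IsLocalization.Away.lift_eq] at h2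
    have ha : a = 0 := by simpa using h2.symm
    rw [ha, map_zero] at h
    exact (IsLocalization.map_units Z' t).mul_left_eq_zero.1 h
  have hfac : toL.comp ψ = g'.toRingHom.comp (MvPolynomial.map z0) := by
    refine MvPolynomial.ringHom_ext (fun z => ?_) fun i => ?_
    · refine RingHom.congr_fun (IsLocalization.ringHom_ext (Submonoid.powers M)
        (j := toL.comp ψ |>.comp C) (k := (g'.toRingHom.comp (MvPolynomial.map z0)).comp C)
        (RingHom.ext_int _ _)) z
    · have h1 := RingHom.congr_fun hcomp (X i)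
      simp [φA] at h1
      simp [ψ, toL, h1]
  have ψinj : Function.Injective ψ := by
    refine Function.Injective.of_comp (f := toL) ?_
    rw [← RingHom.coe_comp, hfac, RingHom.coe_comp]
    exact g'inj.comp (MvPolynomial.map_injective _ z0inj)
  -- integrality
  letI : Algebra R' A' := ψ.toAlgebra
  haveI : FaithfulSMul R' A' := (faithfulSMul_iff_algebraMap_injective _ _).2 ψinj
  have hA'gen : ∀ B : Subalgebra R' A', (∀ a ∈ s, algebraMap A A' a ∈ B) → B = ⊤ := by
    intro B hB
    rw [eq_top_iff]
    rintro z -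
    obtain ⟨n, a, h⟩ := IsLocalization.Away.surj (M : A) z
    have ha : algebraMap A A' a ∈ B := by
      have hx : a ∈ Algebra.adjoin ℤ (s : Set A) := hs ▸ Algebra.mem_top
      clear h
      induction hx using Algebra.adjoin_induction with
      | mem w hw => exact hB w hw
      | algebraMap m =>
        have : algebraMap A A' (algebraMap ℤ A m) = algebraMap R' A' (C (algebraMap ℤ Z' m)) := by simp
        rw [this]
        exact Subalgebra.algebraMap_mem _ _
      | add v w _ _ hv hw => rw [map_add]; exact add_mem hv hw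
      | mul v w _ _ hv hw => rw [map_mul]; exact mul_mem hv hw
    have hinv : algebraMap R' A' (C (IsLocalization.Away.invSelf M ^ n)) * (algebraMap A A' (M : A)) ^ n = 1 := by
      have h1 : algebraMap A A' (M : A) = algebraMap R' A' (C (algebraMap ℤ Z' M)) := by simp
      rw [h1, ← map_pow, ← map_mul, ← map_pow C, ← map_mul C, ← mul_pow, mul_comm,
        IsLocalization.Away.mul_invSelf]
      simp
    have hz : z = algebraMap R' A' (C (IsLocalization.Away.invSelf M ^ n)) * algebraMap A A' a := by
      rw [← h, mul_left_comm, hinv, mul_one]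
    rw [hz]
    exact mul_mem (Subalgebra.algebraMap_mem _ _) ha
  haveI : Algebra.FiniteType R' A' := by
    refine ⟨⟨s.image (algebraMap A A'), hA'gen _ fun a ha => ?_⟩⟩
    exact Algebra.subset_adjoin (by simpa using ⟨a, ha, rfl⟩)
  haveI : Algebra.IsIntegral R' A' := by
    refine ⟨fun z => ?_⟩
    have := hA'gen (integralClosure R' A') fun a ha => ?_
    · exact (SetLike.ext_iff.1 this z).2 Algebra.mem_top
    obtain ⟨P, hPm, hP⟩ := hNint a
    have hφ : ψ.comp (MvPolynomial.map (algebraMap ℤ Z')) = (algebraMap A A').comp φA := by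
      refine MvPolynomial.ringHom_ext (fun n => ?_) fun i => ?_
      · simp [ψ, φA]
      · rw [RingHom.comp_apply, RingHom.comp_apply, MvPolynomial.map_X]
        exact (eval₂Hom_X' _ _ _).trans (congrArg _ (eval₂Hom_X' _ _ _).symm)
    have h1 : IsIntegral R' (algebraMap A A' ((N a : A) * ((N a : A) * a))) := by
      refine ⟨P.map (MvPolynomial.map (algebraMap ℤ Z')), hPm.map _, ?_⟩
      show Polynomial.eval₂ ψ _ _ = 0
      rw [Polynomial.eval₂_map, hφ, ← Polynomial.hom_eval₂, hP, map_zero]
    obtain ⟨c, hc⟩ := Finset.dvd_prod_of_mem N ha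
    have h2 : algebraMap A A' a = algebraMap R' A'
        (C ((IsLocalization.Away.invSelf M * algebraMap ℤ Z' c) ^ 2)) *
        algebraMap A A' ((N a : A) * ((N a : A) * a)) := by
      have h3 : algebraMap R' A' (C (IsLocalization.Away.invSelf M * algebraMap ℤ Z' c)) *
          algebraMap A A' (N a : A) = 1 := by
        have h4 : algebraMap A A' (N a : A) = algebraMap R' A' (C (algebraMap ℤ Z' (N a))) := by
          simp
        rw [h4, ← map_mul, ← map_mul C, mul_assoc, ← map_mul (algebraMap ℤ Z'), mul_comm c, ← hc,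
          mul_comm, IsLocalization.Away.mul_invSelf]
        simp
      rw [map_pow, map_pow, map_mul (algebraMap A A') (N a : A) _, map_mul (algebraMap A A') (N a : A) a]
      calc algebraMap A A' a
          = (algebraMap R' A' (C (IsLocalization.Away.invSelf M * algebraMap ℤ Z' c)) *
              algebraMap A A' (N a : A)) ^ 2 * algebraMap A A' a := by rw [h3, one_pow, one_mul]
        _ = _ := by ring
    rw [mem_integralClosure_iff, h2]
    exact (isIntegral_algebraMap).mul h1
  -- dimension
  have hd : d + 1 ≤ r := by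
    have h1 := Groth.Agent.Lib.Dim.Integral.ringKrullDim_eq_of_isIntegral (R := R') (A := A')
    rw [MvPolynomial.ringKrullDim_of_isNoetherianRing, Nat.card_fin] at h1
    have hle : ringKrullDim A' ≤ ringKrullDim A :=
      Order.krullDim_le_of_strictMono (PrimeSpectrum.comap (algebraMap A A'))
        (Monotone.strictMono_of_injective (fun _ _ h => Ideal.comap_mono h)
          (PrimeSpectrum.localization_comap_injective A' (Submonoid.powers (M : A))))
    have hZ : (1 : WithBot ℕ∞) ≤ ringKrullDim Z' := by
      haveI : IsDomain Z' := IsLocalization.isDomain_localization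
        (powers_le_nonZeroDivisors_of_noZeroDivisors hM0)
      obtain ⟨p, hp1, hp⟩ := Nat.exists_infinite_primes (M.natAbs + 1)
      have hnf : ¬ IsField Z' := by
        intro hf
        letI := hf.toField
        obtain ⟨⟨a, ⟨_, n, rfl⟩⟩, h⟩ :=
          IsLocalization.surj (Submonoid.powers M) ((algebraMap ℤ Z' p)⁻¹)
        have hne : algebraMap ℤ Z' p ≠ 0 := by
          intro h0
          have := congrArg z0 h0
          rw [IsLocalization.Away.lift_eq] at this
          simp at this
          exact hp.ne_zero this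
        rw [inv_mul_eq_iff_eq_mul₀ hne, ← map_mul] at h
        have h' := congrArg z0 h
        rw [IsLocalization.Away.lift_eq, IsLocalization.Away.lift_eq] at h'
        have h5 : M ^ n = (p : ℤ) * a := by
          apply Int.cast_injective (α := ℚ)
          simpa only [eq_intCast, Int.cast_mul, Int.cast_pow, Int.cast_natCast] using h'
        have hdvd : (p : ℤ) ∣ M ^ n := ⟨a, h5⟩
        have := (Nat.prime_iff_prime_int.1 hp).dvd_of_dvd_pow hdvd
        have := Nat.le_of_dvd (Int.natAbs_pos.2 hM0) (Int.natCast_dvd.1 this)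
        omega
      by_contra hlt
      rw [not_le] at hlt
      have : Ring.KrullDimLE 0 Z' := by
        rw [Ring.krullDimLE_iff]
        rcases h0 : ringKrullDim Z' with _ | x
        · exact bot_le
        · rw [h0] at hlt
          have h1 : x < 1 := WithBot.coe_lt_coe.1 hlt
          exact WithBot.coe_le_coe.2 (Order.lt_one_iff.1 h1).le
      exact hnf Ring.KrullDimLE.isField_of_isDomain
    have : ((d + 1 : ℕ) : WithBot ℕ∞) ≤ r := by
      refine le_trans ?_ ((h1.symm.le.trans hle).trans hr)
      rw [add_comm d 1]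
      push_cast
      exact add_le_add hZ le_rfl
    exact_mod_cast this
  obtain ⟨C₀, hC₀⟩ := exists_card_fibre_le (R := R') (A := A')
  refine ⟨M.natAbs, C₀, Int.natAbs_ne_zero.2 hM0, fun F _ hF hMF => ?_⟩
  have : Subsingleton (Z' →+* F) :=
    ⟨fun a b => IsLocalization.ringHom_ext (Submonoid.powers M) (RingHom.ext_int _ _)⟩
  obtain ⟨hfin, hle⟩ := card_hom_mvPolynomial_le (R := Z') d F
  obtain ⟨hfinA, hleA⟩ := hC₀ F hfin
  have hu : ∀ φ : A →+* F, IsUnit (φ (M : A)) := fun φ =>
    isUnit_iff_ne_zero.2 (by rw [map_intCast]; exact hnat F M hMF)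
  have hext : Nat.card (A →+* F) ≤ Nat.card (A' →+* F) := by
    refine Nat.card_le_card_of_injective
      (fun φ : A →+* F => (IsLocalization.Away.lift (M : A) (hu φ) : A' →+* F))
      fun φ₁ φ₂ h => RingHom.ext fun a => ?_
    have := RingHom.congr_fun h (algebraMap A A' a)
    simpa using this
  calc Nat.card F * Nat.card (A →+* F) ≤ Nat.card F * (C₀ * Nat.card F ^ d) :=
        Nat.mul_le_mul_left _ (hext.trans (hleA.trans (Nat.mul_le_mul_left _ hle)))
    _ = C₀ * Nat.card F ^ (d + 1) := by ring
    _ ≤ C₀ * Nat.card F ^ r := Nat.mul_le_mul_left _ (Nat.pow_le_pow_right Nat.card_pos hd)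

end Groth.Agent.Lib.Zeta.PointBound
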