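import Groth.Agent.Lib.SchQuot.Residue
import Groth.Agent.Lib.PointDim.Residue
import Mathlib.FieldTheory.IsAlgClosed.AlgebraicClosure
import Mathlib.FieldTheory.Normal.Basic

/-!
# Field-valued points of a quotient by a finite group
-/

universe u

open CategoryTheory AlgebraicGeometry

namespace Groth.Agent.Lib.Zeta.QuotPoints

open Groth.Agent.Lib.SchQuot

variable {X Y : Scheme.{u}} {G : Type u} [Group G] [Finite G] {ρ : G →* Aut X} {p : X ⟶ Y}
  (hp : SGA1.IsQuot ρ p)

include hp

/-- Two points with values in a field and the same image in the quotient differ by the group. -/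
theorem exists_smul_of_comp_eq {Ω : Type u} [Field Ω] (a b : Spec (CommRingCat.of Ω) ⟶ X)
    (h : a ≫ p = b ≫ p) : ∃ g : G, a ≫ (ρ g).hom = b := by
  obtain ⟨g₀, hg₀⟩ := (IsQuot.apply_eq_iff hp (a (IsLocalRing.closedPoint Ω))
    (b (IsLocalRing.closedPoint Ω))).mp congr($h (IsLocalRing.closedPoint Ω))
  suffices key : ∀ (x : X) (e₁ e₂ : X.residueField x ⟶ CommRingCat.of Ω),
      p.residueFieldMap x ≫ e₁ = p.residueFieldMap x ≫ e₂ →
        ∃ g : G, (Spec.map e₁ ≫ X.fromSpecResidueField x) ≫ (ρ g).hom =
          Spec.map e₂ ≫ X.fromSpecResidueField x by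
    set x := b (IsLocalRing.closedPoint Ω)
    have ha : ∃ e : X.residueField x ⟶ CommRingCat.of Ω,
        a ≫ (ρ g₀).hom = Spec.map e ≫ X.fromSpecResidueField x := by
      have hx : (a ≫ (ρ g₀).hom) (IsLocalRing.closedPoint Ω) = x := hg₀
      refine ⟨(X.residueFieldCongr hx).inv ≫
        X.descResidueField (Scheme.stalkClosedPointTo (a ≫ (ρ g₀).hom)), ?_⟩
      rw [Spec.map_comp, Category.assoc, Scheme.residueFieldCongr_inv,
        Scheme.residueFieldCongr_fromSpecResidueField]
      exact (Scheme.descResidueField_stalkClosedPointTo_fromSpecResidueField _ _ _).symm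
    obtain ⟨e₁, he₁⟩ := ha
    let e₂ := X.descResidueField (Scheme.stalkClosedPointTo b)
    have he₂ : b = Spec.map e₂ ≫ X.fromSpecResidueField x :=
      (Scheme.descResidueField_stalkClosedPointTo_fromSpecResidueField _ _ _).symm
    obtain ⟨g, hg⟩ := key x e₁ e₂ <| by
      refine Spec.map_injective ((cancel_mono (Y.fromSpecResidueField (p x))).mp ?_)
      simp only [Spec.map_comp, Category.assoc, Scheme.Hom.SpecMap_residueFieldMap_fromSpecResidueField]
      rw [← reassoc_of% he₁, ← reassoc_of% he₂, ← h, hp.inv]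
    refine ⟨g * g₀, ?_⟩
    rw [IsQuot.hom_mul_hom, ← Category.assoc, he₁, hg, ← he₂]
  intro x e₁ e₂ he
  let := (p.residueFieldMap x).hom.toAlgebra
  have hN := (Residue.normal_and_exists hp x).1
  let : Algebra (Y.residueField (p x)) Ω := ((p.residueFieldMap x) ≫ e₁).hom.toAlgebra
  let a₂ : X.residueField x →ₐ[Y.residueField (p x)] Ω :=
    { e₂.hom with commutes' := fun c => congr($he.symm c) }
  let : Algebra (X.residueField x) Ω := e₁.hom.toAlgebra
  have : IsScalarTower (Y.residueField (p x)) (X.residueField x) Ω :=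
    .of_algebraMap_eq fun _ => rfl
  let σ : X.residueField x ≃ₐ[Y.residueField (p x)] X.residueField x :=
    AlgEquiv.ofBijective (a₂.restrictNormal (X.residueField x))
      (AlgHom.normal_bijective _ (X.residueField x) _ (a₂.restrictNormal (X.residueField x)))
  let τ : X.residueField x ≅ X.residueField x := σ.toRingEquiv.toCommRingCatIso
  obtain ⟨g, e, hτ⟩ := (Residue.normal_and_exists hp x).2 τ
    (CommRingCat.hom_ext (RingHom.ext fun c => σ.commutes c))
  refine ⟨g, ?_⟩
  have hστ : τ.hom ≫ e₁ = e₂ :=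
    CommRingCat.hom_ext (RingHom.ext fun c => a₂.restrictNormal_commutes (X.residueField x) c)
  rw [← hστ, hτ, Category.assoc, ← Scheme.Hom.SpecMap_residueFieldMap_fromSpecResidueField]
  simp only [Spec.map_comp, Category.assoc]
  rw [Scheme.residueFieldCongr_inv, Scheme.residueFieldCongr_fromSpecResidueField]

/-- Points of the quotient lift after a field extension. -/
theorem exists_lift {K : Type u} [Field K] (g : Spec (CommRingCat.of K) ⟶ Y) :
    ∃ a : Spec (CommRingCat.of (AlgebraicClosure K)) ⟶ X,
      a ≫ p = Spec.map (CommRingCat.ofHom (algebraMap K (AlgebraicClosure K))) ≫ g := by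
  obtain ⟨x, hx⟩ := IsQuot.surjective hp (g (IsLocalRing.closedPoint K))
  let e := (Y.residueFieldCongr hx).hom ≫ Y.descResidueField (Scheme.stalkClosedPointTo g) ≫
    CommRingCat.ofHom (algebraMap K (AlgebraicClosure K))
  let := (p.residueFieldMap x).hom.toAlgebra
  let : Algebra (Y.residueField (p x)) (AlgebraicClosure K) := e.hom.toAlgebra
  have hN := (Residue.normal_and_exists hp x).1
  let φ : X.residueField x →ₐ[Y.residueField (p x)] AlgebraicClosure K := IsAlgClosed.lift
  have hφ : p.residueFieldMap x ≫ CommRingCat.ofHom φ.toRingHom = e :=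
    CommRingCat.hom_ext (RingHom.ext fun c => φ.commutes c)
  refine ⟨Spec.map (CommRingCat.ofHom φ.toRingHom) ≫ X.fromSpecResidueField x, ?_⟩
  rw [Category.assoc, ← Scheme.Hom.SpecMap_residueFieldMap_fromSpecResidueField,
    ← Spec.map_comp_assoc]
  refine (congrArg (fun e => Spec.map e ≫ Y.fromSpecResidueField (p x)) hφ).trans ?_
  simp only [e, Spec.map_comp, Category.assoc, Scheme.residueFieldCongr_fromSpecResidueField,
    Scheme.descResidueField_stalkClosedPointTo_fromSpecResidueField]

end Groth.Agent.Lib.Zeta.QuotPoints
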