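import Groth.Agent.Lib.Zeta.ExpSeries

/-!
`exp` and rescaling.
-/

open PowerSeries

namespace Groth.Agent.Lib.Zeta.ExpSeries

theorem coe_rescale_expS {A : Type*} [CommRing A] [Algebra ℚ A] (a : A) {g : PowerSeries A}
    (hg : constantCoeff g = 0) : expS (rescale a g) = rescale a (expS g) := by
  have h0 : ∀ F : PowerSeries A, constantCoeff (rescale a F) = constantCoeff F := fun F => by
    rw [← coeff_zero_eq_constantCoeff_apply, coeff_rescale, pow_zero, one_mul,
      coeff_zero_eq_constantCoeff_apply]
  have hd : ∀ F : PowerSeries A, d⁄dX A (rescale a F) = C a * rescale a (d⁄dX A F) := fun F => by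
    ext n
    rw [coeff_derivative, coeff_rescale, coeff_C_mul, coeff_rescale, coeff_derivative]
    ring
  refine (eq_expS_of_derivative (by rw [h0, hg]) ?_ (by rw [h0, constantCoeff_expS hg])).symm
  rw [hd, hd, derivative_expS hg, map_mul, mul_assoc]

end Groth.Agent.Lib.Zeta.ExpSeries
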