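import Groth.Agent.Lib.Zeta.DescClosed
import Groth.Agent.Lib.Zeta.GaloisFibre
import Mathlib.FieldTheory.Perfect

/-!
# Zero-cycles on `X` and Galois invariant zero-cycles on `X ⊗ k̄`
-/

universe u

open CategoryTheory CategoryTheory.Limits AlgebraicGeometry

namespace Groth.Agent.Lib.Zeta.ZeroCycle

set_option backward.isDefEq.respectTransparency false

variable {k : Type u} [Field k] {X : Scheme.{u}} {f : X ⟶ Spec (CommRingCat.of k)}
  (K : Type u) [Field K] [Algebra k K]

theorem surjective_extπ : Function.Surjective (FinFr.extπ K f) := by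
  have : Surjective (FinFr.specι k K) :=
    ⟨fun x => ⟨default, Subsingleton.elim (α := PrimeSpectrum k) _ _⟩⟩
  exact (MorphismProperty.pullback_fst (P := @Surjective) f (FinFr.specι k K) this).1

theorem isClosedMap_extπ [Algebra.IsAlgebraic k K] : IsClosedMap (FinFr.extπ K f) := by
  have : IsIntegralHom (FinFr.specι k K) :=
    IsIntegralHom.SpecMap_iff.mpr (algebraMap_isIntegral_iff.mpr inferInstance)
  have : IsIntegralHom (FinFr.extπ K f) := MorphismProperty.pullback_fst _ _ inferInstance
  exact (FinFr.extπ K f).isClosedMap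

variable [LocallyOfFiniteType f]

theorem isClosed_of_isClosed_image [Normal k K] {z : ↥(FinFr.ext K f)}
    (hz : IsClosed ({FinFr.extπ K f z} : Set X)) : IsClosed ({z} : Set ↥(FinFr.ext K f)) := by
  have : JacobsonSpace ↥(FinFr.ext K f) :=
    LocallyOfFiniteType.jacobsonSpace (FinFr.extStr K f)
  obtain ⟨w, hwz, hw : IsClosed ({w} : Set _)⟩ :=
    nonempty_inter_closedPoints (Z := closure ({z} : Set ↥(FinFr.ext K f)))
      ⟨z, subset_closure rfl⟩ isClosed_closure.isLocallyClosed
  have hwx : FinFr.extπ K f w = FinFr.extπ K f z := by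
    have := image_closure_subset_closure_image (FinFr.extπ K f).continuous ⟨w, hwz, rfl⟩
    rwa [Set.image_singleton, hz.closure_eq] at this
  obtain ⟨σ, rfl⟩ := GaloisFibre.exists_aut (FinFr.galAct f) (FinFr.galAct_fst f)
    (FinFr.galAct_snd f) hwx
  have hinv : FinFr.galAct f σ ≫ FinFr.galAct f σ.symm = 𝟙 _ := by
    refine pullback.hom_ext ?_ ?_
    · rw [Category.assoc, FinFr.galAct_fst, FinFr.galAct_fst, Category.id_comp]
    · rw [Category.assoc, FinFr.galAct_snd, ← Category.assoc, FinFr.galAct_snd, Category.assoc,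
        ← Spec.map_comp, Category.id_comp]
      convert Category.comp_id _
      rw [← Spec.map_id]
      congr 1
      ext c
      exact σ.apply_symm_apply c
  have hinv' : FinFr.galAct f σ.symm ≫ FinFr.galAct f σ = 𝟙 _ := by
    refine pullback.hom_ext ?_ ?_
    · rw [Category.assoc, FinFr.galAct_fst, FinFr.galAct_fst, Category.id_comp]
    · rw [Category.assoc, FinFr.galAct_snd, ← Category.assoc, FinFr.galAct_snd, Category.assoc,
        ← Spec.map_comp, Category.id_comp]
      convert Category.comp_id _
      rw [← Spec.map_id]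
      congr 1
      ext c
      exact σ.symm_apply_apply c
  have : ({FinFr.galAct f σ w} : Set ↥(FinFr.ext K f)) = FinFr.galAct f σ.symm ⁻¹' {w} := by
    ext y
    refine ⟨fun hy => ?_, fun hy => ?_⟩
    · rw [Set.mem_singleton_iff] at hy
      rw [Set.mem_preimage, hy, ← Scheme.Hom.comp_apply, hinv]
      exact Set.mem_singleton _
    · rw [Set.mem_preimage, Set.mem_singleton_iff] at hy
      rw [Set.mem_singleton_iff, ← hy, ← Scheme.Hom.comp_apply, hinv']
      rfl
  rw [this]
  exact hw.preimage (FinFr.galAct f σ.symm).continuous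

variable (f) in
/-- The fibre over a closed point has as many points as the degree of the residue field. -/
theorem finite_fibre_ncard [IsAlgClosed K] [Algebra.IsAlgebraic k K] [PerfectField k] [Normal k K]
    {x : X} (hx : IsClosed ({x} : Set X)) :
    (FinFr.extπ K f ⁻¹' {x}).Finite ∧
      (FinFr.extπ K f ⁻¹' {x}).ncard = EGA4loc.residueDegree f x := by
  let := (Points.resMap f x).hom.toAlgebra
  have : Module.Finite k (X.residueField x) :=
    Module.finite_of_finrank_pos ((Points.isClosed_iff_deg_pos f x).mp hx)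
  have he : ∀ a : X.residueField x →ₐ[k] K,
      Points.resMap f x ≫ CommRingCat.ofHom a.toRingHom = CommRingCat.ofHom (algebraMap k K) :=
    fun a => CommRingCat.hom_ext (RingHom.ext fun c => a.commutes c)
  let Φ : (X.residueField x →ₐ[k] K) → ↥(FinFr.ext K f) := fun a =>
    (DescClosed.pt K x _ (he a) : Spec (CommRingCat.of K) ⟶ _) (IsLocalRing.closedPoint K)
  have hrange : Set.range Φ = FinFr.extπ K f ⁻¹' {x} := by
    refine Set.Subset.antisymm ?_ fun z hz => ?_
    · rintro _ ⟨a, rfl⟩
      rw [Set.mem_preimage, Set.mem_singleton_iff, ← Scheme.Hom.comp_apply, DescClosed.pt,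
        pullback.lift_fst, Scheme.Hom.comp_apply]
      exact Scheme.fromSpecResidueField_apply _ _
    · have hzc : IsClosed ({z} : Set ↥(FinFr.ext K f)) :=
        isClosed_of_isClosed_image K (by rw [show FinFr.extπ K f z = x from hz]; exact hx)
      obtain ⟨e, he', h⟩ := DescClosed.exists_pt K hzc x hz
      exact ⟨{ e.hom with commutes' := fun c => congr($he' c) }, h⟩
  have hinj : Function.Injective Φ := fun a b hab => by
    have h1 : (pointEquivClosedPoint (FinFr.extStr K f)) ⟨_, pullback.lift_snd _ _ _⟩ =
        pointEquivClosedPoint (FinFr.extStr K f) ⟨_, pullback.lift_snd _ _ _⟩ := Subtype.ext hab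
    have h2 := congrArg (fun p => p.1 ≫ FinFr.extπ K f)
      ((pointEquivClosedPoint (FinFr.extStr K f)).injective h1)
    simp only [pullback.lift_fst, cancel_mono] at h2
    refine AlgHom.ext fun c => ?_
    exact congr($(Spec.map_injective h2) c)
  have hdeg : EGA4loc.residueDegree f x = Module.finrank k (X.residueField x) :=
    Points.residueDegree_eq_deg f x
  rw [← hrange]
  refine ⟨Set.finite_range Φ, ?_⟩
  rw [Set.ncard_range_of_injective hinj, Nat.card_eq_fintype_card, AlgHom.card, hdeg]

end Groth.Agent.Lib.Zeta.ZeroCycle
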